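import Groth.Agent.NumRLib.Cones
import Groth.Agent.CurvLib.RRBasic

/-!
# Big and effective classes
-/

set_option autoImplicit false
set_option linter.style.haveILetI false
set_option maxHeartbeats 1000000
universe u

open CategoryTheory CategoryTheory.Limits AlgebraicGeometry TopologicalSpace Opposite
open HilbPolyLib DevissLib IntMultLib IntFunLib
open NumR

noncomputable section

namespace NumRLib

variable {k : Type u} [Field k] {X : Scheme.{u}} [X.Over (Spec (CommRingCat.of k))]
  [IsProper (X ↘ Spec (CommRingCat.of k))] [IsIntegral X]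

omit [X.Over (Spec (CommRingCat.of k))] [IsProper (X ↘ Spec (CommRingCat.of k))] in
theorem not_isZero_structureModule : ¬ IsZero (Coh.structureModule X) := fun hz => by
  have h := support_of_isZero hz
  rw [support_structureModule'] at h
  exact (h.le (Set.mem_univ (genericPoint X)) : _)

omit [X.Over (Spec (CommRingCat.of k))] [IsProper (X ↘ Spec (CommRingCat.of k))] in
theorem ne_zero_of_mono {M : X.Modules} (φ : Coh.structureModule X ⟶ M) [Mono φ] : φ ≠ 0 := fun h => by
  refine not_isZero_structureModule (X := X) (IsZero.iff_id_eq_zero _ |>.mpr ?_)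
  rw [← cancel_mono φ, h, comp_zero, comp_zero]

omit [X.Over (Spec (CommRingCat.of k))] [IsProper (X ↘ Spec (CommRingCat.of k))] [IsIntegral X] in
theorem mono_tensor {A P Q : X.Modules} (hA : PicF.IsInvertible A) (φ : P ⟶ Q) [Mono φ] :
    ∃ ψ : CohB1.tensorMod A P ⟶ CohB1.tensorMod A Q, Mono ψ := by
  let S : ShortComplex X.Modules := ShortComplex.mk φ (cokernel.π φ) (cokernel.condition φ)
  have hS : S.ShortExact :=
    { exact := ShortComplex.exact_cokernel φ, mono_f := inferInstanceAs (Mono φ)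
      epi_g := inferInstanceAs (Epi (cokernel.π φ)) }
  exact ⟨(S.map (CurvLib.tensorLeft' A)).f, (HilbPolyLib.shortExact_tensor hA hS).mono_f⟩

include k in
omit [IsIntegral X] in
theorem exists_inverse [PicGrp.Law X] {A : X.Modules} (hA : PicF.IsInvertible A) :
    ∃ A' : X.Modules, PicF.IsInvertible A' ∧ Nonempty (CohB1.tensorMod A A' ≅ Coh.structureModule X) := by
  obtain ⟨A', hA', h⟩ := PicGrp.exists_eq_cls (PicGrp.cls A hA)⁻¹
  exact ⟨A', hA', (PicGrp.cls_mul_cls_eq_one_iff hA hA').mp (by rw [← h, mul_inv_cancel])⟩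

omit [X.Over (Spec (CommRingCat.of k))] [IsProper (X ↘ Spec (CommRingCat.of k))] in
/-- Globally generated modules have sections. -/
theorem exists_mono_of_globallyGenerated {M : X.Modules} (hM : PicF.IsInvertible M) (h : Curv2.IsGloballyGenerated M) :
    ∃ s : Coh.structureModule X ⟶ M, Mono s := by
  obtain ⟨ι, p, hp⟩ := h
  by_cases h0 : ∀ i : ι, (SheafOfModules.ιFree i ≫ p : Coh.structureModule X ⟶ M) = 0
  · exfalso
    have hp0 : p = 0 := Cofan.IsColimit.hom_ext (SheafOfModules.isColimitFreeCofan ι) _ _ fun i => by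
      exact (h0 i).trans comp_zero.symm
    have hz : IsZero M := by
      refine (IsZero.iff_id_eq_zero M).mpr (@Epi.left_cancellation _ _ _ _ p hp M _ _ ?_)
      exact ((congrArg (· ≫ 𝟙 M) hp0).trans zero_comp).trans comp_zero.symm
    obtain ⟨U, hxU, ⟨e⟩⟩ := hM (genericPoint X)
    have h1 := support_of_isZero
      (((Scheme.Modules.restrictFunctor U.ι).map_isZero hz).of_iso e.symm : IsZero (Coh.structureModule U.toScheme))
    rw [support_structureModule'] at h1
    exact (h1.le (Set.mem_univ (⟨genericPoint X, hxU⟩ : U.toScheme)) : _)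
  · push Not at h0
    obtain ⟨i, hi⟩ := h0
    exact ⟨_, CurvLib.mono_of_ne_zero CurvLib.isInvertible_structureModule hM hi⟩

/-- Bigness of a module. -/
abbrev IsBigMod (L : X.Modules) : Prop :=
  ∀ A : X.Modules, CohB1.IsAmple A → ∃ (m : ℕ) (φ : A ⟶ CohB1.tensorPow L m), 0 < m ∧ Mono φ

variable [PicGrp.Law X]

include k in
omit [IsIntegral X] in
/-- A monomorphism into a twist gives one into the module. -/
theorem exists_mono_twist {A A' M : X.Modules} (hA : PicF.IsInvertible A) (e : CohB1.tensorMod A A' ≅ Coh.structureModule X)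
    (s : Coh.structureModule X ⟶ CohB1.tensorMod M A') [Mono s] : ∃ φ : A ⟶ M, Mono φ := by
  obtain ⟨ψ, hψ⟩ := mono_tensor hA s
  refine ⟨(HilbPolyLib.swapIso A (Coh.structureModule X) ≪≫ HilbPolyLib.unitLeft A).inv ≫ ψ ≫
    (HilbPolyLib.leftComm A M A' ≪≫ HilbPolyLib.congrRight M e ≪≫ HilbPolyLib.swapIso M _ ≪≫ HilbPolyLib.unitLeft M).hom, ?_⟩
  infer_instance

include k in
/-- The product of an ample module and a module with a section is big. -/
theorem isBigMod_tensor {L E : X.Modules} (hA : CohB1.IsAmple L) (hE : PicF.IsInvertible E) (hs : NumR.HasSection E) :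
    IsBigMod (CohB1.tensorMod L E) := by
  haveI := CurvLib.isNoetherian k (X := X)
  intro A hAA
  obtain ⟨A', hA', ⟨e⟩⟩ := exists_inverse (k := k) hAA.1
  obtain ⟨m, hm, hgg⟩ : ∃ m : ℕ, 0 < m ∧ Curv2.IsGloballyGenerated (CohB1.tensorMod (CohB1.tensorPow L m) A') := by
    haveI : X.IsSeparated := ⟨by
      rw [show Limits.terminal.from X = (X ↘ Spec (CommRingCat.of k)) ≫ Limits.terminal.from _ from Subsingleton.elim _ _]
      infer_instance⟩
    obtain ⟨n₀, hn₀, h⟩ := MiscFlat6.eventually_ample_globallyGenerated hA hA'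
    exact ⟨n₀, hn₀, (h n₀ le_rfl).2⟩
  obtain ⟨s, hs'⟩ := exists_mono_of_globallyGenerated
    (HilbPolyLib.isInvertible_tensor (AmpleThLib.tensorPow_isInvertible hA.1 m) hA') hgg
  obtain ⟨φ, hφ⟩ := exists_mono_twist (k := k) hAA.1 e s
  obtain ⟨t, ht⟩ := hs
  haveI := CurvLib.mono_of_ne_zero CurvLib.isInvertible_structureModule hE ht
  -- the section of the power of `E`
  have hpow : ∀ n : ℕ, ∃ r : Coh.structureModule X ⟶ CohB1.tensorPow E n, Mono r := by
    intro n
    induction n with
    | zero => exact show ∃ r : Coh.structureModule X ⟶ Coh.structureModule X, Mono r from ⟨𝟙 _, inferInstance⟩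
    | succ n ih =>
      obtain ⟨r, hr⟩ := ih
      obtain ⟨ψ, hψ⟩ := mono_tensor (AmpleThLib.tensorPow_isInvertible hE n) t
      exact ⟨r ≫ (HilbPolyLib.swapIso _ _ ≪≫ HilbPolyLib.unitLeft (CohB1.tensorPow E n)).inv ≫ ψ,
        @mono_comp _ _ _ _ _ r hr _ (@mono_comp _ _ _ _ _ _ inferInstance ψ hψ)⟩
  obtain ⟨r, hr⟩ := hpow m
  obtain ⟨ψ, hψ⟩ := mono_tensor (AmpleThLib.tensorPow_isInvertible hA.1 m) r
  have hiso : Nonempty (CohB1.tensorMod (CohB1.tensorPow L m) (CohB1.tensorPow E m) ≅ CohB1.tensorPow (CohB1.tensorMod L E) m) := by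
    refine (PicGrp.cls_eq_cls_iff (HilbPolyLib.isInvertible_tensor (AmpleThLib.tensorPow_isInvertible hA.1 m)
      (AmpleThLib.tensorPow_isInvertible hE m))
      (AmpleThLib.tensorPow_isInvertible (HilbPolyLib.isInvertible_tensor hA.1 hE) m)).mp ?_
    rw [← cls_mul (AmpleThLib.tensorPow_isInvertible hA.1 m) (AmpleThLib.tensorPow_isInvertible hE m),
      show PicGrp.cls (CohB1.tensorPow L m) (AmpleThLib.tensorPow_isInvertible hA.1 m) = PicGrp.cls L hA.1 ^ m from
        Subtype.ext (PicGrp.cls_pow_val hA.1 m).symm,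
      show PicGrp.cls (CohB1.tensorPow E m) (AmpleThLib.tensorPow_isInvertible hE m) = PicGrp.cls E hE ^ m from
        Subtype.ext (PicGrp.cls_pow_val hE m).symm,
      show PicGrp.cls (CohB1.tensorPow (CohB1.tensorMod L E) m) _ = PicGrp.cls _ (HilbPolyLib.isInvertible_tensor hA.1 hE) ^ m from
        Subtype.ext (PicGrp.cls_pow_val _ m).symm,
      ← cls_mul hA.1 hE, mul_pow]
  obtain ⟨f⟩ := hiso
  exact ⟨m, φ ≫ (HilbPolyLib.swapIso _ _ ≪≫ HilbPolyLib.unitLeft (CohB1.tensorPow L m)).inv ≫ ψ ≫ f.hom, hm,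
    inferInstance⟩

variable (k) in
/-- The big cone. -/
abbrev bigCone : ConvexCone ℝ (N1R k X) := coneOf k X fun L : X.Modules => IsBigMod L

omit [IsIntegral X] [IsProper (X ↘ Spec (CommRingCat.of k))] in
/-- Minimality of the generated cone. -/
theorem coneOf_le {P : X.Modules → Prop} {S : Set (N1R k X)}
    (hgen : ∀ (L : X.Modules) (hL : PicF.IsInvertible L), P L → clR k X L hL ∈ S)
    (hsmul : ∀ (t : ℝ), 0 < t → ∀ a ∈ S, t • a ∈ S) (hadd : ∀ a ∈ S, ∀ b ∈ S, a + b ∈ S) :
    (coneOf k X P : Set (N1R k X)) ⊆ S := by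
  let K : ConvexCone ℝ (N1R k X) :=
    { carrier := S, smul_mem' := fun t ht a ha => hsmul t ht a ha, add_mem' := fun a ha b hb => hadd a ha b hb }
  have h : coneOf k X P ≤ K := ConvexCone.hull_min (C := K) fun x ⟨L, hL, hP, he⟩ => by
    rw [he]; exact hgen L hL hP
  exact h

omit [IsProper (X ↘ Spec (CommRingCat.of k))] in
theorem zero_mem_effCone : (0 : N1R k X) ∈ effCone k X := by
  refine ConvexCone.subset_hull ⟨Coh.structureModule X, CurvLib.isInvertible_structureModule,
    ⟨𝟙 _, fun h => not_isZero_structureModule (X := X) ((IsZero.iff_id_eq_zero _).mpr h)⟩, ?_⟩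
  rw [clR_def, cl, PicGrp.cls_structureModule_eq_one, ofMul_one, map_zero, map_zero]

/-- Multiples of ample classes are effective. -/
theorem ampleCone_le_effCone : (ampleCone k X : Set (N1R k X)) ⊆ effCone k X := by
  refine ampleCone_le (fun L hL hA => ?_) (fun t ht a ha => (effCone k X).smul_mem ht ha)
    (fun a ha b hb => (effCone k X).add_mem ha hb)
  obtain ⟨m, φ, hm, hφ⟩ := IntFunLib.exists_section_pow hA
  have hmem : clR k X (CohB1.tensorPow L m) (AmpleThLib.tensorPow_isInvertible hL m) ∈ effCone k X :=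
    ConvexCone.subset_hull ⟨_, _, ⟨φ, hφ⟩, rfl⟩
  rw [clR_pow hL m] at hmem
  have := (effCone k X).smul_mem (show (0 : ℝ) < 1 / m by positivity) hmem
  rwa [smul_smul, one_div_mul_cancel (by exact_mod_cast hm.ne'), one_smul] at this

theorem smul_clR_add_mem_big {L E : X.Modules} (hA : CohB1.IsAmple L) (hE : PicF.IsInvertible E)
    (hs : NumR.HasSection E) {t s : ℝ} (ht : 0 < t) (hs0 : 0 ≤ s) :
    t • clR k X L hA.1 + s • clR k X E hE ∈ bigCone k (X := X) := by
  obtain ⟨O, hO⟩ : ∃ s : Coh.structureModule X ⟶ Coh.structureModule X, s ≠ 0 :=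
    ⟨𝟙 _, fun h => not_isZero_structureModule (X := X) ((IsZero.iff_id_eq_zero _).mpr h)⟩
  have hgen : ∀ n : ℕ, clR k X L hA.1 + (n : ℝ) • clR k X E hE ∈ bigCone k (X := X) := fun n => by
    have hEn := AmpleThLib.tensorPow_isInvertible hE n
    obtain ⟨t', ht'⟩ := hs
    haveI := CurvLib.mono_of_ne_zero CurvLib.isInvertible_structureModule hE ht'
    have hsn : NumR.HasSection (CohB1.tensorPow E n) := by
      induction n with
      | zero => exact ⟨O, hO⟩
      | succ n ih =>
        obtain ⟨r, hr⟩ := ih (AmpleThLib.tensorPow_isInvertible hE n)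
        haveI := CurvLib.mono_of_ne_zero CurvLib.isInvertible_structureModule (AmpleThLib.tensorPow_isInvertible hE n) hr
        obtain ⟨ψ, hψ⟩ := mono_tensor (AmpleThLib.tensorPow_isInvertible hE n) t'
        haveI : Mono (r ≫ (HilbPolyLib.swapIso _ _ ≪≫ HilbPolyLib.unitLeft (CohB1.tensorPow E n)).inv ≫ ψ) := inferInstance
        exact ⟨_, ne_zero_of_mono (r ≫ (HilbPolyLib.swapIso _ _ ≪≫ HilbPolyLib.unitLeft (CohB1.tensorPow E n)).inv ≫ ψ)⟩
    have h := ConvexCone.subset_hull (R := ℝ) (s := {x : N1R k X | ∃ (M : X.Modules) (hM : PicF.IsInvertible M), IsBigMod M ∧ x = clR k X M hM})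
      ⟨_, HilbPolyLib.isInvertible_tensor hA.1 hEn, isBigMod_tensor (k := k) hA hEn hsn, rfl⟩
    rw [clR_tensor hA.1 hEn, clR_pow hE n] at h
    exact h
  obtain ⟨n, hn⟩ := exists_nat_gt (s / t)
  have hn0 : (0 : ℝ) < n := lt_of_le_of_lt (by positivity) hn
  rcases eq_or_lt_of_le hs0 with h0 | h0
  · rw [← h0, zero_smul, add_zero]
    have := (bigCone k (X := X)).smul_mem ht (hgen 0)
    simpa using this
  have h1 : 0 < t - s / n := by
    rw [sub_pos, div_lt_iff₀ hn0]
    rw [div_lt_iff₀ ht] at hn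
    linarith
  have heq : t • clR k X L hA.1 + s • clR k X E hE =
      (t - s / n) • (clR k X L hA.1 + ((0 : ℕ) : ℝ) • clR k X E hE) + (s / n) • (clR k X L hA.1 + (n : ℝ) • clR k X E hE) := by
    have : s = s / n * n := by field_simp
    conv_lhs => rw [this]
    push_cast
    module
  rw [heq]
  exact (bigCone k (X := X)).add_mem ((bigCone k (X := X)).smul_mem h1 (hgen 0))
    ((bigCone k (X := X)).smul_mem (by positivity) (hgen n))

theorem add_mem_bigCone {a e : N1R k X} (ha : a ∈ ampleCone k X) (he : e ∈ effCone k X) : a + e ∈ bigCone k (X := X) := by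
  refine (coneOf_le (P := NumR.HasSection) (S := {e | ∀ a ∈ ampleCone k X, a + e ∈ bigCone k (X := X)})
    (fun E hE hs => ?_) (fun t ht e he a ha => ?_) (fun e he e' he' a ha => ?_)) he a ha
  · intro a ha
    have := (ampleCone_le (S := {a | ∀ s : ℝ, 0 ≤ s → a + s • clR k X E hE ∈ bigCone k (X := X)}) (fun L hL hA s hs' => by
        simpa using smul_clR_add_mem_big hA hE hs one_pos hs')
      (fun t ht a ha s hs' => by
        have := (bigCone k (X := X)).smul_mem ht (ha (s / t) (by positivity))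
        rwa [smul_add, smul_smul, mul_div_cancel₀ _ ht.ne'] at this)
      (fun a ha b hb s hs' => by
        have := (bigCone k (X := X)).add_mem (ha (s / 2) (by positivity)) (hb (s / 2) (by positivity))
        rwa [add_add_add_comm, ← add_smul, add_halves] at this)) ha 1 zero_le_one
    rwa [one_smul] at this
  · have := (bigCone k (X := X)).smul_mem ht (he _ ((ampleCone k X).smul_mem (inv_pos.mpr ht) ha))
    rwa [smul_add, smul_smul, mul_inv_cancel₀ ht.ne', one_smul] at this
  · have h2 := (ampleCone k X).smul_mem (show (0 : ℝ) < 1 / 2 by norm_num) ha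
    have := (bigCone k (X := X)).add_mem (he _ h2) (he' _ h2)
    rwa [add_add_add_comm, ← add_smul, add_halves, one_smul] at this

/-- A real class is big exactly when it is ample plus effective. -/
theorem mem_bigCone_iff {H : X.Modules} (hH : CohB1.IsAmple H) (x : N1R k X) :
    x ∈ bigCone k (X := X) ↔ ∃ a ∈ (ampleCone k X : Set (N1R k X)), x - a ∈ (effCone k X : Set (N1R k X)) := by
  refine ⟨fun hx => (coneOf_le (P := fun L : X.Modules => IsBigMod L)
    (S := {x | ∃ a ∈ (ampleCone k X : Set (N1R k X)), x - a ∈ (effCone k X : Set (N1R k X))})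
    (fun L hL hb => ?_) (fun t ht a ha => ?_) (fun a ha b hb => ?_)) hx, fun ⟨a, ha, he⟩ => ?_⟩
  · obtain ⟨m, φ, hm, hφ⟩ := hb H hH
    obtain ⟨H', hH', ⟨e⟩⟩ := exists_inverse (k := k) hH.1
    have hLm := AmpleThLib.tensorPow_isInvertible hL m
    obtain ⟨ψ, hψ⟩ := mono_tensor hH' φ
    let σ : Coh.structureModule X ⟶ CohB1.tensorMod H' (CohB1.tensorPow L m) := e.inv ≫ (HilbPolyLib.swapIso H H').hom ≫ ψ
    have hmem : clR k X _ (HilbPolyLib.isInvertible_tensor hH' hLm) ∈ effCone k X :=
      ConvexCone.subset_hull ⟨_, _, ⟨σ, ne_zero_of_mono σ⟩, rfl⟩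
    have hO : clR k X H hH.1 + clR k X H' hH' = 0 := by
      rw [← clR_tensor hH.1 hH' (HilbPolyLib.isInvertible_tensor hH.1 hH'),
        clR_congr (HilbPolyLib.isInvertible_tensor hH.1 hH') CurvLib.isInvertible_structureModule e,
        clR_def, cl, PicGrp.cls_structureModule_eq_one, ofMul_one, map_zero, map_zero]
    rw [clR_tensor hH' hLm, clR_pow hL m, eq_neg_of_add_eq_zero_right hO] at hmem
    refine ⟨((1 : ℝ) / m) • clR k X H hH.1, (ampleCone k X).smul_mem (by positivity) (mem_ampleCone hH.1 hH), ?_⟩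
    have := (effCone k X).smul_mem (show (0 : ℝ) < 1 / m by positivity) hmem
    rwa [smul_add, smul_neg, smul_smul, one_div_mul_cancel (by exact_mod_cast hm.ne'), one_smul,
      neg_add_eq_sub] at this
  · obtain ⟨b, hb, he⟩ := ha
    refine ⟨t • b, (ampleCone k X).smul_mem ht hb, ?_⟩
    rw [← smul_sub]
    exact (effCone k X).smul_mem ht he
  · obtain ⟨c, hc, he⟩ := ha
    obtain ⟨c', hc', he'⟩ := hb
    refine ⟨c + c', (ampleCone k X).add_mem hc hc', ?_⟩
    rw [add_sub_add_comm]
    exact (effCone k X).add_mem he he'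
  · rw [← add_sub_cancel a x]
    exact add_mem_bigCone ha he

end NumRLib
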