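import Groth.Prelude.Def_NumR
import Groth.Agent.SurfNumLib.Proper
import Groth.Agent.SurfNumLib.Basic
import Groth.Agent.SurfNumLib.Config
import Groth.Agent.SurfNumLib.CastSev
import Groth.Agent.WeilExtLib.Smooth
import Mathlib.LinearAlgebra.Matrix.ToLinearEquiv
import Mathlib.LinearAlgebra.Dimension.Finite

/-!
# The intersection form on real classes
-/

set_option autoImplicit false
set_option linter.style.haveILetI false
set_option maxHeartbeats 1000000
universe u

open CategoryTheory CategoryTheory.Limits AlgebraicGeometry TopologicalSpace Opposite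
open HilbPolyLib DevissLib IntMultLib IntFunLib HodgeIdxLib
open NumR

noncomputable section

namespace NumRLib

variable {k : Type u} [Field k] {X : Scheme.{u}} [X.Over (Spec (CommRingCat.of k))] [PicGrp.Law X]

omit [X.Over (Spec (CommRingCat.of k))] in
theorem cls_mul {L M : X.Modules} (hL : PicF.IsInvertible L) (hM : PicF.IsInvertible M)
    (hLM : PicF.IsInvertible (CohB1.tensorMod L M)) :
    PicGrp.cls L hL * PicGrp.cls M hM = PicGrp.cls (CohB1.tensorMod L M) hLM :=
  Subtype.ext (PicGrp.cls_mul_cls_val hL hM)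

theorem clR_tensor {L M : X.Modules} (hL : PicF.IsInvertible L) (hM : PicF.IsInvertible M)
    (hLM : PicF.IsInvertible (CohB1.tensorMod L M)) :
    clR k X (CohB1.tensorMod L M) hLM = clR k X L hL + clR k X M hM := by
  rw [clR_def, clR_def, clR_def, ← map_add, cl, cl, cl, ← map_add, ← ofMul_mul, cls_mul hL hM hLM]

theorem clR_congr {L M : X.Modules} (hL : PicF.IsInvertible L) (hM : PicF.IsInvertible M) (e : L ≅ M) :
    clR k X L hL = clR k X M hM := by
  rw [clR_def, clR_def, cl, cl, (PicGrp.cls_eq_cls_iff hL hM).mpr ⟨e⟩]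

theorem clR_pow {L : X.Modules} (hL : PicF.IsInvertible L) (n : ℕ)
    (hLn : PicF.IsInvertible (CohB1.tensorPow L n)) :
    clR k X (CohB1.tensorPow L n) hLn = (n : ℝ) • clR k X L hL := by
  have h : PicGrp.cls (CohB1.tensorPow L n) hLn = PicGrp.cls L hL ^ n :=
    Subtype.ext (PicGrp.cls_pow_val hL n).symm
  rw [clR_def, clR_def, cl, cl, h, ofMul_pow, map_nsmul, map_nsmul, Nat.cast_smul_eq_nsmul]

/-- Integral combinations of classes are classes. -/
theorem exists_clR_eq (z : N1 k X) : ∃ (L : X.Modules) (hL : PicF.IsInvertible L), toN1R k X z = clR k X L hL := by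
  obtain ⟨L, hL, rfl⟩ := exists_eq_cl z
  exact ⟨L, hL, rfl⟩

theorem exists_clR_comb {ι : Type*} (s : Finset ι) {L : ι → X.Modules} (hL : ∀ i, PicF.IsInvertible (L i))
    (c : ι → ℤ) : ∃ (M : X.Modules) (hM : PicF.IsInvertible M),
      clR k X M hM = ∑ i ∈ s, (c i : ℝ) • clR k X (L i) (hL i) := by
  obtain ⟨M, hM, h⟩ := exists_clR_eq (k := k) (∑ i ∈ s, c i • cl k X (L i) (hL i))
  refine ⟨M, hM, ?_⟩
  rw [← h, map_sum]
  refine Finset.sum_congr rfl fun i _ => ?_
  rw [map_zsmul, Int.cast_smul_eq_zsmul]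
  rfl

variable [IsProper (X ↘ Spec (CommRingCat.of k))] [IsIntegral X] [Smooth (X ↘ Spec (CommRingCat.of k))]
  (hX : topologicalKrullDim X = ((2 : ℕ) : WithBot ℕ∞))
  {B : N1R k X →ₗ[ℝ] N1R k X →ₗ[ℝ] ℝ} (hB : IsIntForm₂ k X B)

include hX hB

omit [Smooth (X ↘ Spec (CommRingCat.of k))] in
theorem B_clR {L M : X.Modules} (hL : PicF.IsInvertible L) (hM : PicF.IsInvertible M) :
    B (clR k X L hL) (clR k X M hM) = (pr k L M : ℝ) := by
  rw [hB L M hL hM, SurfNumLib.intNum_eq_pr hX.le]

omit [Smooth (X ↘ Spec (CommRingCat.of k))] in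
theorem B_symm (x y : N1R k X) : B x y = B y x := by
  have h : B = B.flip := by
    refine isIntForm₂_unique hB fun L M hL hM => ?_
    rw [LinearMap.flip_apply, hB M L hM hL, SurfNumLib.intNum_eq_pr hX.le, SurfNumLib.intNum_eq_pr hX.le, pr_comm]
  exact congrArg (fun F => F x y) h

omit hB in
/-- Modules orthogonal to everything are numerically trivial. -/
theorem numTrivial_of_pr {M : X.Modules} (hM : PicF.IsInvertible M)
    (h : ∀ T : X.Modules, PicF.IsInvertible T → pr k M T = 0) : Pic13.IsNumEquivZero k X M := by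
  intro Y i hi hY hd
  haveI := CurvLib.isNoetherian k (X := X)
  letI : Y.Over (Spec (CommRingCat.of k)) := ⟨i ≫ (X ↘ Spec (CommRingCat.of k))⟩
  haveI : IsProper (Y ↘ Spec (CommRingCat.of k)) := inferInstanceAs (IsProper (i ≫ (X ↘ Spec (CommRingCat.of k))))
  haveI := CurvLib.isNoetherian k (X := Y)
  haveI : IsIntegral i.ker.subscheme := by
    haveI : Nonempty i.ker.subscheme := ⟨i.toImage (genericPoint Y)⟩
    exact isIntegral_of_isOpenImmersion (inv i.toImage)
  have hsd : topologicalKrullDim (i.ker.support : Set X) = 1 := by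
    rw [← i.ker.range_subschemeι, ← hd]
    exact (((asIso i.toImage).hom.homeomorph.trans i.ker.subschemeι.isEmbedding.toHomeomorph)).isHomeomorph.topologicalKrullDim_eq.symm
  have hC := SurfNumLib.isEffCartier_curve k hX
    (WeilExtLib.isRegular_stalk_smooth (X ↘ Spec (CommRingCat.of k))) i.ker hsd
  have hCi := IntMultLib.isInvertible_idealMod _ hC
  have hY1 : topologicalKrullDim Y ≤ ((1 : ℕ) : WithBot ℕ∞) := by rw [hd, Nat.cast_one]
  simp only [Pic13.curveDeg]
  rw [eulerCharLE_eq hY1, eulerCharLE_eq hY1, euler_sub_eq_N]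
  have h2 := N_push (k := k) (g := i) rfl (l := [M]) (by simpa using hM) (DevissLib.isCoh_structureModule Y)
    ((topologicalKrullDim_subspace_le _ _).trans (by simpa using hY1))
  change N k [KFlatLib.pb i M] (Coh.structureModule Y) = N k [M] ((Coh.push i).obj (Coh.structureModule Y)) at h2
  rw [← N_congr [M] (SurfNumLib.quotMod_ker_iso i).some] at h2
  have h3 := SurfNumLib.pr_ideal (k := k) i.ker (CurvLib.isCoh_of_isInvertible hCi) hM
  rw [pr_comm, h _ hCi] at h3
  change N k [KFlatLib.pb i M] (Coh.structureModule Y) = 0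
  omega

omit hX hB [Smooth (X ↘ Spec (CommRingCat.of k))] [IsIntegral X] [IsProper (X ↘ Spec (CommRingCat.of k))] in
/-- A basis of classes of modules. -/
theorem exists_basis [Module.Finite ℝ (N1R k X)] :
    ∃ (ι : Type (u + 1)) (_ : Fintype ι) (L : ι → X.Modules) (hL : ∀ i, PicF.IsInvertible (L i))
      (b : Module.Basis ι ℝ (N1R k X)), ∀ i, b i = clR k X (L i) (hL i) := by
  obtain ⟨s, hs, hspan, hli⟩ := exists_linearIndependent ℝ
    {x : N1R k X | ∃ (L : X.Modules) (hL : PicF.IsInvertible L), x = clR k X L hL}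
  rw [span_clR] at hspan
  haveI : Finite s := hli.finite
  haveI := Fintype.ofFinite s
  choose L hL he using fun i : s => hs i.2
  refine ⟨s, inferInstance, L, hL, Module.Basis.mk hli (by rw [Subtype.range_coe, hspan]), fun i => ?_⟩
  rw [Module.Basis.mk_apply]
  exact he i

/-- The intersection form is nondegenerate. -/
theorem nondegenerate [Module.Finite ℝ (N1R k X)] {x : N1R k X} (h : ∀ z, B x z = 0) : x = 0 := by
  classical
  obtain ⟨ι, _, L, hL, b, hb⟩ := exists_basis (k := k) (X := X)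
  let G : Matrix ι ι ℤ := fun i j => pr k (L i) (L j)
  by_contra hx
  have hdet : (G.map (Int.cast : ℤ → ℝ)).det = 0 := by
    refine Matrix.exists_mulVec_eq_zero_iff.mp ⟨fun j => b.repr x j, fun h0 => hx ?_, funext fun i => ?_⟩
    · rw [← b.sum_repr x]
      exact Finset.sum_eq_zero fun j _ => by rw [show b.repr x j = 0 from congrFun h0 j, zero_smul]
    · have h1 := h (b i)
      rw [← b.sum_repr x, map_sum, LinearMap.sum_apply] at h1
      simp only [map_smul, LinearMap.smul_apply, smul_eq_mul, hb, B_clR hX hB] at h1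
      rw [Pi.zero_apply, ← h1]
      refine Finset.sum_congr rfl fun j _ => ?_
      change (G i j : ℝ) * b.repr x j = _
      rw [mul_comm, show G i j = pr k (L j) (L i) from pr_comm _ _]
  have hdet' : G.det = 0 := by
    have h2 := (Int.castRingHom ℝ).map_det G
    rw [RingHom.mapMatrix_apply] at h2
    rw [show ((Int.castRingHom ℝ) : ℤ → ℝ) = (Int.cast : ℤ → ℝ) from rfl] at h2
    exact_mod_cast h2.trans hdet
  obtain ⟨c, hc, hGc⟩ := Matrix.exists_mulVec_eq_zero_iff.mpr hdet'
  obtain ⟨M, hM, hMe⟩ := exists_clR_comb (k := k) Finset.univ hL c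
  have horth : ∀ i, B (clR k X M hM) (b i) = 0 := fun i => by
    rw [hMe, map_sum, LinearMap.sum_apply]
    simp only [map_smul, LinearMap.smul_apply, smul_eq_mul, hb, B_clR hX hB]
    have h3 : ((∑ j, G i j * c j : ℤ) : ℝ) = 0 := by exact_mod_cast congrFun hGc i
    push_cast at h3
    rw [← h3]
    refine Finset.sum_congr rfl fun j _ => ?_
    rw [mul_comm, show G i j = pr k (L j) (L i) from pr_comm _ _]
  have hall : B (clR k X M hM) = 0 := b.ext fun i => by rw [horth i, LinearMap.zero_apply]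
  have hM0 : clR k X M hM = 0 := by
    rw [clR_def, cl_eq_zero hM (numTrivial_of_pr hX hM fun T hT => ?_), map_zero]
    have h4 : B (clR k X M hM) (clR k X T hT) = 0 := by rw [hall, LinearMap.zero_apply]
    rw [B_clR hX hB] at h4
    exact_mod_cast h4
  refine hc (funext fun i => ?_)
  have h5 : ∑ j, (c j : ℝ) • b j = 0 := by simp only [hb]; rw [← hMe, hM0]
  exact_mod_cast Fintype.linearIndependent_iff.mp b.linearIndependent (fun j => (c j : ℝ)) h5 i

omit [Smooth (X ↘ Spec (CommRingCat.of k))] in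
/-- The index inequality for real classes. -/
theorem mul_le_sq [Module.Finite ℝ (N1R k X)] {H : X.Modules} (hH : PicF.IsInvertible H) (hpos : 0 < pr k H H)
    (x : N1R k X) : B (clR k X H hH) (clR k X H hH) * B x x ≤ B x (clR k X H hH) ^ 2 := by
  classical
  obtain ⟨ι, _, L, hL, b, hb⟩ := exists_basis (k := k) (X := X)
  let h := clR k X H hH
  let f : (ι → ℝ) → ℝ := fun r => B (∑ i, r i • b i) h ^ 2 - B h h * B (∑ i, r i • b i) (∑ i, r i • b i)
  have hf : ∀ r, f r = (∑ i, r i * B (b i) h) ^ 2 - B h h * ∑ i, r i * ∑ j, r j * B (b j) (b i) := fun r => by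
    simp only [f, map_sum, map_smul, LinearMap.sum_apply, LinearMap.smul_apply, smul_eq_mul, Finset.mul_sum]
  have hcont : Continuous f := by
    rw [show f = _ from funext hf]
    fun_prop
  have hrat : ∀ q : ι → ℚ, 0 ≤ f (fun i => (q i : ℝ)) := fun q => by
    let d : ℕ := ∏ i, (q i).den
    have hd : (0 : ℝ) < d := by exact_mod_cast Finset.prod_pos fun i _ => (q i).den_pos
    obtain ⟨c, hc⟩ : ∃ c : ι → ℤ, ∀ i, (c i : ℝ) = (q i : ℝ) * d := by
      have hdvd : ∀ i, ∃ z : ℤ, (z : ℚ) = q i * (d : ℚ) := fun i => by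
        obtain ⟨m, hm⟩ : (q i).den ∣ d := Finset.dvd_prod_of_mem _ (Finset.mem_univ i)
        refine ⟨(q i).num * m, ?_⟩
        rw [hm]; push_cast
        rw [← mul_assoc, Rat.mul_den_eq_num]
      choose c hc using hdvd
      exact ⟨c, fun i => by exact_mod_cast congrArg (fun t : ℚ => (t : ℝ)) (hc i)⟩
    obtain ⟨M, hM, hMe⟩ := exists_clR_comb (k := k) Finset.univ hL c
    have h1 := SurfNumLib.mul_le_sq_proper (k := k) hX hH hM hpos
    have h1' : (pr k H H : ℝ) * (pr k M M : ℝ) ≤ (pr k M H : ℝ) ^ 2 := by exact_mod_cast h1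
    rw [← B_clR hX hB hH hH, ← B_clR hX hB hM hM, ← B_clR hX hB hM hH] at h1'
    have hMe' : clR k X M hM = (d : ℝ) • ∑ i, (q i : ℝ) • b i := by
      rw [hMe, Finset.smul_sum]
      refine Finset.sum_congr rfl fun i _ => ?_
      rw [smul_smul, hb, hc i, mul_comm]
    rw [hMe'] at h1'
    simp only [map_smul, LinearMap.smul_apply, smul_eq_mul] at h1'
    have h2 : 0 ≤ (d : ℝ) ^ 2 * f (fun i => (q i : ℝ)) := by
      simp only [f, h]
      nlinarith [h1']
    exact (mul_nonneg_iff_of_pos_left (pow_pos hd 2)).mp h2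
  have hall : ∀ r, 0 ≤ f r := fun r => by
    refine DenseRange.induction_on (DenseRange.piMap fun _ : ι => Rat.denseRange_cast (𝕜 := ℝ)) r
      (isClosed_le continuous_const hcont) hrat
  have hx := hall (fun i => b.repr x i)
  simp only [f, b.sum_repr] at hx
  linarith

end NumRLib
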