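import Groth.Agent.NumRLib.Basic
import Groth.Agent.SurfAmpleLib.Main
import Groth.Agent.MiscFlat6.AmpleGen

/-!
# Ample classes of a surface
-/

set_option autoImplicit false
set_option linter.style.haveILetI false
set_option maxHeartbeats 1000000
universe u

open CategoryTheory CategoryTheory.Limits AlgebraicGeometry TopologicalSpace Opposite
open HilbPolyLib DevissLib IntMultLib IntFunLib HodgeIdxLib
open NumR

noncomputable section

namespace NumRLib

variable {k : Type u} [Field k] {X : Scheme.{u}} [X.Over (Spec (CommRingCat.of k))] [PicGrp.Law X]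

variable (k) in
/-- The class of a curve. -/
abbrev cc (C : NumR.Curve X) : N1R k X := curveCl k X C.1 C.2.2.2

section Top

variable [Module.Finite ℝ (N1R k X)]

/-- Coordinates, continuously. -/
theorem continuous_comb {ι : Type*} [Fintype ι] (v : ι → N1R k X) : Continuous fun r : ι → ℝ => ∑ i, r i • v i :=
  continuous_finset_sum _ fun i _ => (continuous_apply i).smul continuous_const

theorem continuous_B (B : N1R k X →ₗ[ℝ] N1R k X →ₗ[ℝ] ℝ) : Continuous fun p : N1R k X × N1R k X => B p.1 p.2 :=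
  IsModuleTopology.continuous_bilinear_of_finite_left B

theorem continuous_B_left (B : N1R k X →ₗ[ℝ] N1R k X →ₗ[ℝ] ℝ) (z : N1R k X) : Continuous fun x => B x z :=
  (continuous_B B).comp (continuous_id.prodMk continuous_const)

theorem continuous_sq (B : N1R k X →ₗ[ℝ] N1R k X →ₗ[ℝ] ℝ) : Continuous fun x => B x x :=
  (continuous_B B).comp (continuous_id.prodMk continuous_id)

end Top

section Hull

/-- Criterion for the ample cone. -/
theorem ampleCone_le {S : Set (N1R k X)} (hgen : ∀ (L : X.Modules) (hL : PicF.IsInvertible L), CohB1.IsAmple L → clR k X L hL ∈ S)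
    (hsmul : ∀ (t : ℝ), 0 < t → ∀ a ∈ S, t • a ∈ S) (hadd : ∀ a ∈ S, ∀ b ∈ S, a + b ∈ S) :
    (ampleCone k X : Set (N1R k X)) ⊆ S := by
  let K : ConvexCone ℝ (N1R k X) :=
    { carrier := S, smul_mem' := fun t ht a ha => hsmul t ht a ha, add_mem' := fun a ha b hb => hadd a ha b hb }
  have h : ampleCone k X ≤ K := ConvexCone.hull_min (C := K) fun x ⟨L, hL, hP, he⟩ => by
    rw [he]; exact hgen L hL hP
  exact h

theorem mem_ampleCone {L : X.Modules} (hL : PicF.IsInvertible L) (hA : CohB1.IsAmple L) :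
    clR k X L hL ∈ (ampleCone k X : Set (N1R k X)) :=
  ConvexCone.subset_hull ⟨L, hL, hA, rfl⟩

end Hull

variable [IsProper (X ↘ Spec (CommRingCat.of k))] [IsIntegral X] [Smooth (X ↘ Spec (CommRingCat.of k))]
  (hX : topologicalKrullDim X = ((2 : ℕ) : WithBot ℕ∞))
  {B : N1R k X →ₗ[ℝ] N1R k X →ₗ[ℝ] ℝ} (hB : IsIntForm₂ k X B)

omit [PicGrp.Law X] in
variable (k) in
include k hX in
theorem invertible_curve {c : X} (hc : topologicalKrullDim (closure ({c} : Set X)) = ((1 : ℕ) : WithBot ℕ∞)) :
    PicF.IsInvertible (ClSub.idealMod (ptIdeal c)) := by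
  haveI := isIntegral_ptIdeal c
  exact IntMultLib.isInvertible_idealMod _ (SurfNumLib.isEffCartier_curve k hX
    (WeilExtLib.isRegular_stalk_smooth (X ↘ Spec (CommRingCat.of k))) _ (by rw [IntFunLib.dim_ptIdeal, hc, Nat.cast_one]))

include hX hB

omit [Smooth (X ↘ Spec (CommRingCat.of k))] in
theorem B_cc (L : X.Modules) (hL : PicF.IsInvertible L) (C : NumR.Curve X) :
    B (clR k X L hL) (cc k C) = (N k [L] (ClSub.quotMod C.1) : ℝ) := by
  haveI := C.2.1
  rw [cc, curveCl, map_neg, B_clR hX hB, pr_comm,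
    SurfNumLib.pr_ideal C.1 (CurvLib.isCoh_of_isInvertible C.2.2.2) hL]
  push_cast
  ring

omit [Smooth (X ↘ Spec (CommRingCat.of k))] in
/-- Distinct curves meet nonnegatively. -/
theorem B_cc_nonneg {C C' : NumR.Curve X} (hne : C ≠ C') : 0 ≤ B (cc k C) (cc k C') := by
  haveI := C.2.1
  haveI := C'.2.1
  rw [cc, cc, curveCl, curveCl, map_neg, map_neg, LinearMap.neg_apply, neg_neg, B_clR hX hB]
  exact_mod_cast SurfNumLib.pr_curves_nonneg (k := k) (IntMultLib.isEffCartier_of_isInvertible _ C.2.2.2)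
    (IntMultLib.isEffCartier_of_isInvertible _ C'.2.2.2) C'.2.2.1
    (SurfNumLib.not_subset_of_ne C.2.2.1 C'.2.2.1 (fun h => hne (Subtype.ext h)))

omit [Smooth (X ↘ Spec (CommRingCat.of k))] in
/-- Ample classes are positive. -/
theorem ample_pos {L : X.Modules} (hL : PicF.IsInvertible L) (hA : CohB1.IsAmple L) :
    0 < B (clR k X L hL) (clR k X L hL) ∧ ∀ C : NumR.Curve X, 0 < B (clR k X L hL) (cc k C) := by
  haveI := CurvLib.isNoetherian k (X := X)
  refine ⟨?_, fun C => ?_⟩
  · rw [B_clR hX hB, SurfNumLib.pr_eq_Fpt hX hL hL]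
    exact_mod_cast N_ample_pos (k := k) (d := 2) hA (ξ := genericPoint X) (SurfNumLib.dim_generic hX)
  · haveI := C.2.1
    rw [B_cc hX hB, IntFunLib.eq_ptIdeal C.1]
    exact_mod_cast N_ample_pos (k := k) (d := 1) hA
      (by rw [IntFunLib.dim_generic_of_support, C.2.2.1, Nat.cast_one])

/-- Modules with a section are effective combinations of curves. -/
theorem exists_curve_comb [Module.Finite ℝ (N1R k X)] {M : X.Modules} (hM : PicF.IsInvertible M)
    {φ : Coh.structureModule X ⟶ M} (hφ : φ ≠ 0) :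
    ∃ (S : Finset (NumR.Curve X)) (w : NumR.Curve X → ℕ),
      clR k X M hM = ∑ C ∈ S, (w C : ℝ) • cc k C := by
  classical
  haveI := CurvLib.isNoetherian k (X := X)
  obtain ⟨hc, hd⟩ := dim_cokernel_le k (n := 1) hX hM hφ
  rcases (CohB1.support (cokernel φ)).eq_empty_or_nonempty with he | hne
  · refine ⟨∅, 0, ?_⟩
    rw [Finset.sum_empty]
    refine nondegenerate hX hB fun z => ?_
    suffices h : B (clR k X M hM) = 0 by rw [h, LinearMap.zero_apply]
    refine LinearMap.ext_on span_clR ?_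
    rintro _ ⟨T, hT, rfl⟩
    rw [B_clR hX hB, pr, ← N_cokernel hX hM hT hφ, IntFunLib.N_low (by simpa using hT) hc (by
      rw [he]
      haveI : IsEmpty (IrreducibleCloseds ↥(∅ : Set X)) := ⟨fun c => by obtain ⟨x, -⟩ := c.isIrreducible.nonempty; exact x.2⟩
      rw [show topologicalKrullDim ↥(∅ : Set X) = ⊥ from Order.krullDim_eq_bot]
      exact WithBot.bot_lt_coe _)]
    simp
  let P := (IntMultLib.finite_dim_points (Y := CohB1.support (cokernel φ)) (QCohLib.isClosed_support _ hc.2) (d := 1) hd).toFinset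
  have hP : ∀ c : {c // c ∈ P}, topologicalKrullDim (closure ({c.1} : Set X)) = ((1 : ℕ) : WithBot ℕ∞) := fun c =>
    ((IntMultLib.finite_dim_points (Y := CohB1.support (cokernel φ)) (QCohLib.isClosed_support _ hc.2) (d := 1) hd).mem_toFinset.mp c.2).2
  let mk : {c // c ∈ P} → NumR.Curve X := fun c => ⟨ptIdeal c.1, isIntegral_ptIdeal c.1,
    by rw [IntFunLib.dim_ptIdeal, hP c, Nat.cast_one], invertible_curve k hX (hP c)⟩
  have hinj : Function.Injective mk := fun a b h => by
    have h1 : ptIdeal a.1 = ptIdeal b.1 := congrArg Subtype.val h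
    have h2 : closure ({a.1} : Set X) = closure {b.1} := by
      rw [← range_ptIdeal a.1, ← range_ptIdeal b.1, h1]
    exact Subtype.ext (inseparable_iff_closure_eq.mpr h2).eq
  let w' : NumR.Curve X → ℕ := Function.extend mk (fun c => (IntMultLib.len (cokernel φ) c.1).toNat) 0
  refine ⟨Finset.univ.image mk, w', ?_⟩
  rw [Finset.sum_image hinj.injOn, ← sub_eq_zero]
  refine nondegenerate hX hB fun z => ?_
  suffices h : B (clR k X M hM - ∑ c, (w' (mk c) : ℝ) • cc k (mk c)) = 0 by rw [h, LinearMap.zero_apply]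
  refine LinearMap.ext_on span_clR ?_
  rintro _ ⟨T, hT, rfl⟩
  obtain ⟨S, hS, -, hsum⟩ := N_sum (k := k) (l := [T]) (by simpa using hT) hc hne hd
  have hSP : S = P := Finset.ext fun x => by
    rw [hS x, Set.Finite.mem_toFinset]
    rfl
  have key : (pr k M T : ℝ) = ∑ c : {c // c ∈ P}, (w' (mk c) : ℝ) * B (cc k (mk c)) (clR k X T hT) := by
    have e1 : pr k M T = ∑ x ∈ P, (IntMultLib.len (cokernel φ) x).toNat • N k [T] (Fpt x) := by
      rw [pr, ← N_cokernel hX hM hT hφ, hsum, hSP]
    rw [e1, ← Finset.sum_coe_sort]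
    push_cast
    refine Finset.sum_congr rfl fun c _ => ?_
    rw [show w' (mk c) = (IntMultLib.len (cokernel φ) c.1).toNat from hinj.extend_apply _ _ c, B_symm hX hB, B_cc hX hB, nsmul_eq_mul]
    push_cast
    rfl
  rw [map_sub, map_sum, LinearMap.sub_apply, LinearMap.sum_apply, LinearMap.zero_apply, B_clR hX hB, key, sub_eq_zero]
  refine Finset.sum_congr rfl fun c _ => ?_
  rw [map_smul, LinearMap.smul_apply, smul_eq_mul]

/-- Classes nonnegative on curves are nonnegative on effective classes. -/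
theorem B_effective_nonneg [Module.Finite ℝ (N1R k X)] {M : X.Modules} (hM : PicF.IsInvertible M)
    {φ : Coh.structureModule X ⟶ M} (hφ : φ ≠ 0) {z : N1R k X} (hz : ∀ C : NumR.Curve X, 0 ≤ B z (cc k C)) :
    0 ≤ B z (clR k X M hM) := by
  obtain ⟨S, w, h⟩ := exists_curve_comb hX hB hM hφ
  rw [h, map_sum]
  exact Finset.sum_nonneg fun C _ => by
    rw [map_smul, smul_eq_mul]; exact mul_nonneg (Nat.cast_nonneg _) (hz C)

/-- Classes nonnegative on curves are nonnegative on ample classes. -/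
theorem B_ample_nonneg [Module.Finite ℝ (N1R k X)] {A : X.Modules} (hA' : PicF.IsInvertible A) (hA : CohB1.IsAmple A)
    {z : N1R k X} (hz : ∀ C : NumR.Curve X, 0 ≤ B z (cc k C)) : 0 ≤ B z (clR k X A hA') := by
  obtain ⟨m, φ, hm, hφ⟩ := IntFunLib.exists_section_pow hA
  have h := B_effective_nonneg hX hB (AmpleThLib.tensorPow_isInvertible hA' m) hφ hz
  rw [clR_pow hA' m, map_smul, smul_eq_mul] at h
  exact nonneg_of_mul_nonneg_right h (by exact_mod_cast hm)

theorem B_amples_pos [Module.Finite ℝ (N1R k X)] {A H : X.Modules} (hA' : PicF.IsInvertible A) (hA : CohB1.IsAmple A)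
    (hH' : PicF.IsInvertible H) (hH : CohB1.IsAmple H) : 0 < B (clR k X A hA') (clR k X H hH') := by
  obtain ⟨hAA, hAC⟩ := ample_pos hX hB hA' hA
  obtain ⟨hHH, -⟩ := ample_pos hX hB hH' hH
  have h0 := B_ample_nonneg hX hB hH' hH (z := clR k X A hA') fun C => (hAC C).le
  refine lt_of_le_of_ne h0 fun h => ?_
  have h1 := mul_le_sq hX hB hH' (by rw [B_clR hX hB] at hHH; exact_mod_cast hHH) (clR k X A hA')
  rw [← h] at h1
  have h2 := mul_pos hHH hAA
  nlinarith

omit hX hB in
omit [Smooth (X ↘ Spec (CommRingCat.of k))] [IsIntegral X] in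
/-- The ample cone is open. -/
theorem isOpen_ampleCone [Module.Finite ℝ (N1R k X)] : IsOpen (ampleCone k X : Set (N1R k X)) := by
  classical
  haveI := CurvLib.isNoetherian k (X := X)
  haveI : X.IsSeparated := ⟨by
    rw [show Limits.terminal.from X = (X ↘ Spec (CommRingCat.of k)) ≫ Limits.terminal.from _ from Subsingleton.elim _ _]
    infer_instance⟩
  obtain ⟨ι, _, M, hM, b, hb⟩ := exists_basis (k := k) (X := X)
  set K : ConvexCone ℝ (N1R k X) := ampleCone k X
  suffices h : (K : Set (N1R k X)) ⊆ interior (K : Set (N1R k X)) by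
    rwa [subset_interior_iff_isOpen] at h
  refine ampleCone_le (fun L hL hA => ?_) (fun t ht a ha => ?_) (fun a ha c hc => ?_)
  · choose M' hM' he' using fun i => exists_clR_eq (k := k) (-cl k X (M i) (hM i))
    choose n₁ hn₁ h₁ using fun i => MiscFlat6.eventually_ample_globallyGenerated hA (hM i)
    choose n₂ hn₂ h₂ using fun i => MiscFlat6.eventually_ample_globallyGenerated hA (hM' i)
    let N₀ := 1 + ∑ i, (n₁ i + n₂ i)
    have hN₁ : ∀ i, n₁ i ≤ N₀ := fun i => by
      have := Finset.single_le_sum (f := fun i => n₁ i + n₂ i) (fun _ _ => Nat.zero_le _) (Finset.mem_univ i)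
      omega
    have hN₂ : ∀ i, n₂ i ≤ N₀ := fun i => by
      have := Finset.single_le_sum (f := fun i => n₁ i + n₂ i) (fun _ _ => Nat.zero_le _) (Finset.mem_univ i)
      omega
    let ℓ := clR k X L hL
    have hmem : ∀ (i : ι) (s : ℝ), (s = 1 ∨ s = -1) → (N₀ : ℝ) • ℓ + s • b i ∈ K := by
      intro i s hs
      have hLn := AmpleThLib.tensorPow_isInvertible hL N₀
      rcases hs with rfl | rfl
      · have hT := HilbPolyLib.isInvertible_tensor hLn (hM i)
        have := mem_ampleCone (k := k) hT (h₁ i N₀ (hN₁ i)).1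
        rwa [clR_tensor hLn (hM i) hT, clR_pow hL N₀ hLn, ← hb, ← one_smul ℝ (b i)] at this
      · have hT := HilbPolyLib.isInvertible_tensor hLn (hM' i)
        have := mem_ampleCone (k := k) hT (h₂ i N₀ (hN₂ i)).1
        rw [clR_tensor hLn (hM' i) hT, clR_pow hL N₀ hLn, ← he', map_neg, ← clR_def, ← hb] at this
        rwa [neg_one_smul]
    have hℓ : ℓ ∈ K := mem_ampleCone hL hA
    let n := Fintype.card ι + 1
    let ε : ℝ := 1 / (2 * n * N₀)
    have hN0 : (0 : ℝ) < N₀ := by exact_mod_cast (show 0 < N₀ by omega)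
    have hn0 : (0 : ℝ) < n := by exact_mod_cast (show 0 < n by omega)
    have hε : 0 < ε := by positivity
    rw [mem_interior_iff_mem_nhds]
    let e : N1R k X →ₗ[ℝ] (ι → ℝ) := b.equivFun.toLinearMap
    have hec : Continuous e := IsModuleTopology.continuous_of_linearMap e
    refine Filter.mem_of_superset ((isOpen_set_pi Set.finite_univ (fun i _ => isOpen_Ioo (a := e ℓ i - ε) (b := e ℓ i + ε))).preimage hec
      |>.mem_nhds (fun i _ => ⟨by linarith, by linarith⟩)) fun x hx => ?_
    have hr : ∀ i, |e x i - e ℓ i| < ε := fun i => by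
      have := hx i (Set.mem_univ i)
      rw [abs_lt]
      constructor <;> [linarith [this.1]; linarith [this.2]]
    have hx' : x = ((1 : ℝ) / n) • ℓ + ∑ i, (((1 : ℝ) / n) • ℓ + (e x i - e ℓ i) • b i) := by
      rw [Finset.sum_add_distrib, Finset.sum_const, Finset.card_univ, ← add_assoc, ← Nat.cast_smul_eq_nsmul ℝ, smul_smul,
        ← add_smul]
      have : (1 : ℝ) / n + (Fintype.card ι : ℝ) * (1 / n) = 1 := by
        field_simp
        simp [n]; ring
      rw [this, one_smul]
      simp only [sub_smul, Finset.sum_sub_distrib]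
      have h3 : ∀ y, ∑ i, e y i • b i = y := fun y => b.sum_equivFun y
      rw [h3, h3]; abel
    have hterm : ∀ i, ((1 : ℝ) / n) • ℓ + (e x i - e ℓ i) • b i ∈ K := fun i => by
      generalize hrdef : e x i - e ℓ i = r
      have hr' := hr i
      rw [hrdef] at hr'
      rcases lt_trichotomy r 0 with h | h | h
      · have h4 : ((1 : ℝ) / n) • ℓ + r • b i = (-r) • ((N₀ : ℝ) • ℓ + (-1 : ℝ) • b i) + ((1 : ℝ) / n + r * N₀) • ℓ := by
          rw [smul_add, smul_smul, smul_smul, add_smul, neg_mul, neg_mul, mul_neg, mul_one, neg_neg, neg_smul]; abel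
        rw [h4]
        refine K.add_mem (K.smul_mem (by linarith) (hmem i _ (Or.inr rfl))) (K.smul_mem ?_ hℓ)
        have h5 : -r * N₀ < ε * N₀ := mul_lt_mul_of_pos_right (lt_of_abs_lt (by rwa [abs_neg])) hN0
        have h6 : ε * N₀ = 1 / (2 * n) := by simp only [ε]; field_simp
        have h7 : (1 : ℝ) / (2 * n) < 1 / n := by rw [div_lt_div_iff₀ (by positivity) hn0]; linarith
        linarith
      · rw [h, zero_smul, add_zero]
        exact K.smul_mem (by positivity) hℓ
      · have h4 : ((1 : ℝ) / n) • ℓ + r • b i = r • ((N₀ : ℝ) • ℓ + (1 : ℝ) • b i) + ((1 : ℝ) / n - r * N₀) • ℓ := by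
          rw [smul_add, smul_smul, smul_smul, sub_smul, mul_one]; abel
        rw [h4]
        refine K.add_mem (K.smul_mem h (hmem i _ (Or.inl rfl))) (K.smul_mem ?_ hℓ)
        have h5 : r * N₀ < ε * N₀ := mul_lt_mul_of_pos_right (lt_of_abs_lt hr') hN0
        have h6 : ε * N₀ = 1 / (2 * n) := by simp only [ε]; field_simp
        have h7 : (1 : ℝ) / (2 * n) < 1 / n := by rw [div_lt_div_iff₀ (by positivity) hn0]; linarith
        linarith
    have key : ∀ s : Finset ι, ((1 : ℝ) / n) • ℓ + ∑ i ∈ s, (((1 : ℝ) / n) • ℓ + (e x i - e ℓ i) • b i) ∈ K := fun s => by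
      induction s using Finset.induction with
      | empty => rw [Finset.sum_empty, add_zero]; exact K.smul_mem (by positivity) hℓ
      | insert a s ha ih => rw [Finset.sum_insert ha, add_left_comm]; exact K.add_mem (hterm a) ih
    change x ∈ K
    rw [hx']
    exact key _
  · refine interior_mono ?_ ((isOpenMap_smul₀ ht.ne').image_interior_subset _ ⟨a, ha, rfl⟩)
    rintro _ ⟨y, hy, rfl⟩
    exact K.smul_mem ht hy
  · rw [mem_interior] at ha ⊢
    obtain ⟨U, hU, hUo, haU⟩ := ha
    refine ⟨(fun z => z + (-c)) ⁻¹' U, fun z hz => ?_, hUo.preimage (continuous_add_right (-c)), by simpa using haU⟩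
    have h := K.add_mem (hU hz) (interior_subset hc)
    simpa using h

end NumRLib
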