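import Mathlib

/-!
# Negative definite integral matrices
-/

set_option autoImplicit false
open Matrix

noncomputable section

namespace NumRLib

variable {ι : Type*} [Fintype ι] [DecidableEq ι] {G : Matrix ι ι ℤ} (hs : ∀ i j, G i j = G j i)
  (h : ∀ a : ι → ℤ, a ≠ 0 → ∑ i, ∑ j, a i * a j * G i j < 0)

include hs h

omit hs in
theorem det_ne_zero_of_negDef : G.det ≠ 0 := fun hd => by
  obtain ⟨c, hc, hGc⟩ := Matrix.exists_mulVec_eq_zero_iff.mpr hd
  have h1 := h c hc
  have h2 : ∑ i, ∑ j, c i * c j * G i j = 0 := by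
    refine Finset.sum_eq_zero fun i _ => ?_
    have h3 : ∑ j, G i j * c j = 0 := congrFun hGc i
    rw [show (fun j => c i * c j * G i j) = fun j => c i * (G i j * c j) from funext fun j => by ring,
      ← Finset.mul_sum, h3, mul_zero]
  omega

omit hs in
theorem det_real_ne_zero : (G.map (Int.cast : ℤ → ℝ)).det ≠ 0 := by
  have h2 := (Int.castRingHom ℝ).map_det G
  rw [RingHom.mapMatrix_apply] at h2
  rw [show ((Int.castRingHom ℝ) : ℤ → ℝ) = (Int.cast : ℤ → ℝ) from rfl] at h2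
  rw [← h2]
  exact fun h3 => det_ne_zero_of_negDef h (by exact_mod_cast h3)

omit hs in
theorem negSemiDef_real (v : ι → ℝ) : ∑ i, ∑ j, v i * v j * (G i j : ℝ) ≤ 0 := by
  refine DenseRange.induction_on (DenseRange.piMap fun _ : ι => Rat.denseRange_cast (𝕜 := ℝ)) v
    (isClosed_le (by fun_prop) continuous_const) fun q => ?_
  let d : ℕ := ∏ i, (q i).den
  have hd : (0 : ℝ) < d := by exact_mod_cast Finset.prod_pos fun i _ => (q i).den_pos
  have hdvd : ∀ i, ∃ z : ℤ, (z : ℚ) = q i * (d : ℚ) := fun i => by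
    obtain ⟨m, hm⟩ : (q i).den ∣ d := Finset.dvd_prod_of_mem _ (Finset.mem_univ i)
    refine ⟨(q i).num * m, ?_⟩
    rw [hm]; push_cast
    rw [← mul_assoc, Rat.mul_den_eq_num]
  choose c hc using hdvd
  have hcr : ∀ i, (c i : ℝ) = (q i : ℝ) * (d : ℝ) := fun i => by exact_mod_cast congrArg (fun t : ℚ => (t : ℝ)) (hc i)
  have h1 : ∑ i, ∑ j, c i * c j * G i j ≤ 0 := by
    by_cases h0 : c = 0
    · simp [h0]
    · exact (h c h0).le
  have h2 : ((∑ i, ∑ j, c i * c j * G i j : ℤ) : ℝ) = (d : ℝ) ^ 2 * ∑ i, ∑ j, (q i : ℝ) * (q j : ℝ) * (G i j : ℝ) := by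
    push_cast
    simp only [hcr, Finset.mul_sum]
    exact Finset.sum_congr rfl fun i _ => Finset.sum_congr rfl fun j _ => by ring
  have h3 : ((∑ i, ∑ j, c i * c j * G i j : ℤ) : ℝ) ≤ 0 := by exact_mod_cast h1
  rw [h2] at h3
  exact nonpos_of_mul_nonpos_right h3 (pow_pos hd 2)

/-- Negative definiteness over `ℤ` gives negative definiteness over `ℝ`. -/
theorem negDef_real {v : ι → ℝ} (hv : v ≠ 0) : ∑ i, ∑ j, v i * v j * (G i j : ℝ) < 0 := by
  refine lt_of_le_of_ne (negSemiDef_real h v) fun h0 => ?_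
  apply hv
  by_contra hne
  refine det_real_ne_zero h (Matrix.exists_mulVec_eq_zero_iff.mp ⟨v, hne, funext fun e => ?_⟩)
  change ∑ j, (G e j : ℝ) * v j = 0
  set w := ∑ j, (G e j : ℝ) * v j
  have hexp : ∀ t : ℝ, t * (2 * w) + t ^ 2 * (G e e : ℝ) ≤ 0 := fun t => by
    have h1 := negSemiDef_real h (fun i => v i + if i = e then t else 0)
    simp only [add_mul, mul_add, Finset.sum_add_distrib, ite_mul, zero_mul, mul_ite, mul_zero,
      Finset.sum_ite_eq', Finset.mem_univ, if_true] at h1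
    have e1 : ∑ j, t * v j * (G e j : ℝ) = t * w := by
      simp only [w, Finset.mul_sum]
      exact Finset.sum_congr rfl fun j _ => by ring
    have e2 : ∑ i, v i * t * (G i e : ℝ) = t * w := by
      simp only [w, Finset.mul_sum]
      exact Finset.sum_congr rfl fun j _ => by rw [hs j e]; ring
    simp only [Finset.sum_ite_irrel, Finset.sum_const_zero, Finset.sum_ite_eq', Finset.mem_univ, if_true] at h1
    rw [e1, e2, h0] at h1
    nlinarith [h1]
  by_contra hw
  have hp : 0 < |(G e e : ℝ)| + 1 := by positivity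
  have h2 := hexp (w / (|(G e e : ℝ)| + 1))
  have h3 : w / (|(G e e : ℝ)| + 1) * (2 * w) + (w / (|(G e e : ℝ)| + 1)) ^ 2 * (G e e : ℝ) =
      w ^ 2 * (2 * (|(G e e : ℝ)| + 1) + (G e e : ℝ)) / (|(G e e : ℝ)| + 1) ^ 2 := by
    field_simp
  rw [h3] at h2
  have h4 : 0 < 2 * (|(G e e : ℝ)| + 1) + (G e e : ℝ) := by linarith [neg_abs_le (G e e : ℝ), abs_nonneg (G e e : ℝ)]
  have h5 : 0 < w ^ 2 * (2 * (|(G e e : ℝ)| + 1) + (G e e : ℝ)) / (|(G e e : ℝ)| + 1) ^ 2 := by positivity
  linarith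

/-- Solving against a positive vector gives a nonnegative vector (off-diagonal nonnegative). -/
theorem exists_nonneg_solution (hoff : ∀ i j, i ≠ j → 0 ≤ G i j) (b : ι → ℝ) (hb : ∀ i, 0 ≤ b i) :
    ∃ s : ι → ℝ, (∀ i, 0 ≤ s i) ∧ ∀ i, ∑ j, (G i j : ℝ) * s j = - b i := by
  set M := G.map (Int.cast : ℤ → ℝ)
  have hu : IsUnit M.det := isUnit_iff_ne_zero.mpr (det_real_ne_zero h)
  let s := M⁻¹ *ᵥ (fun i => - b i)
  have hsol : ∀ i, ∑ j, (G i j : ℝ) * s j = - b i := fun i => by
    have h1 : M *ᵥ s = fun i => - b i := by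
      simp only [s, Matrix.mulVec_mulVec, Matrix.mul_nonsing_inv M hu, Matrix.one_mulVec]
    exact congrFun h1 i
  refine ⟨s, ?_, hsol⟩
  let n : ι → ℝ := fun i => max (-(s i)) 0
  let p : ι → ℝ := fun i => max (s i) 0
  have hpn : ∀ i, p i - n i = s i := fun i => by
    rcases le_total 0 (s i) with h0 | h0 <;> simp [p, n, h0]
  have hzero : n = 0 := by
    by_contra hn
    have hneg := negDef_real hs h hn
    have h1 : ∑ i, n i * ∑ j, (G i j : ℝ) * s j ≤ 0 := Finset.sum_nonpos fun i _ => by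
      rw [hsol i, mul_neg, neg_nonpos]; exact mul_nonneg (le_max_right _ _) (hb i)
    have h2 : ∀ i, n i * ∑ j, (G i j : ℝ) * s j = (∑ j, n i * p j * (G i j : ℝ)) - ∑ j, n i * n j * (G i j : ℝ) := fun i => by
      rw [← Finset.sum_sub_distrib, Finset.mul_sum]
      exact Finset.sum_congr rfl fun j _ => by rw [← hpn j]; ring
    simp only [h2, Finset.sum_sub_distrib] at h1
    have h3 : 0 ≤ ∑ i, ∑ j, n i * p j * (G i j : ℝ) := Finset.sum_nonneg fun i _ => Finset.sum_nonneg fun j _ => by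
      by_cases hij : i = j
      · subst hij
        rcases le_total 0 (s i) with h0 | h0 <;> simp [p, n, h0]
      · exact mul_nonneg (mul_nonneg (le_max_right _ _) (le_max_right _ _)) (by exact_mod_cast hoff i j hij)
    linarith
  intro i
  have h1 := hpn i
  rw [hzero, Pi.zero_apply, sub_zero] at h1
  rw [← h1]
  exact le_max_right _ _

end NumRLib
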