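import Groth.Agent.NumRLib.Pos
import Groth.Agent.NumRLib.NegDef

/-!
# Configurations of curves in the space of real classes
-/

set_option autoImplicit false
set_option linter.style.haveILetI false
set_option maxHeartbeats 1000000
universe u

open CategoryTheory CategoryTheory.Limits AlgebraicGeometry TopologicalSpace Opposite
open HilbPolyLib DevissLib IntMultLib IntFunLib HodgeIdxLib
open NumR

noncomputable section

namespace NumRLib

variable {k : Type u} [Field k] {X : Scheme.{u}} [X.Over (Spec (CommRingCat.of k))] [PicGrp.Law X]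
  {B : N1R k X →ₗ[ℝ] N1R k X →ₗ[ℝ] ℝ} (hB : IsIntForm₂ k X B)

variable (k) in
/-- The Gram matrix of a family of curves. -/
def gram {ι : Type*} (C : ι → NumR.Curve X) : Matrix ι ι ℤ := fun i j =>
  FGA.intNum k X 2 ![ClSub.idealMod (C i).1, ClSub.idealMod (C j).1] (Coh.structureModule X)

include hB

theorem B_cc_cc (C C' : NumR.Curve X) :
    B (cc k C) (cc k C') =
      (FGA.intNum k X 2 ![ClSub.idealMod C.1, ClSub.idealMod C'.1] (Coh.structureModule X) : ℝ) := by
  rw [cc, cc, curveCl, curveCl, map_neg, map_neg, LinearMap.neg_apply, neg_neg, hB]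

theorem B_comb {ι : Type*} [Fintype ι] (C : ι → NumR.Curve X) (v : ι → ℝ) :
    B (∑ i, v i • cc k (C i)) (∑ i, v i • cc k (C i)) = ∑ i, ∑ j, v i * v j * (gram k C i j : ℝ) := by
  simp only [map_sum, map_smul, LinearMap.sum_apply, LinearMap.smul_apply, smul_eq_mul, B_cc_cc hB, Finset.mul_sum]
  rw [Finset.sum_comm]
  refine Finset.sum_congr rfl fun i _ => Finset.sum_congr rfl fun j _ => ?_
  rw [gram]; ring

variable [IsProper (X ↘ Spec (CommRingCat.of k))] [IsIntegral X] [Smooth (X ↘ Spec (CommRingCat.of k))]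
  (hX : topologicalKrullDim X = ((2 : ℕ) : WithBot ℕ∞))

include hX

omit [Smooth (X ↘ Spec (CommRingCat.of k))] in
theorem gram_symm {ι : Type*} (C : ι → NumR.Curve X) (i j : ι) : gram k C i j = gram k C j i := by
  have h := B_symm hX hB (cc k (C i)) (cc k (C j))
  rw [B_cc_cc hB, B_cc_cc hB] at h
  exact Int.cast_injective (α := ℝ) h

omit [Smooth (X ↘ Spec (CommRingCat.of k))] in
theorem gram_nonneg {ι : Type*} {C : ι → NumR.Curve X} (hC : Function.Injective C) {i j : ι} (h : i ≠ j) :
    0 ≤ gram k C i j := by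
  have h1 := B_cc_nonneg hX hB (hC.ne h)
  rw [B_cc_cc hB] at h1
  exact_mod_cast h1

omit [Smooth (X ↘ Spec (CommRingCat.of k))] in
/-- Negative definite configurations are linearly independent. -/
theorem linearIndependent_of_negDef {ι : Type*} [Fintype ι] {C : ι → NumR.Curve X}
    (h : ∀ a : ι → ℤ, a ≠ 0 → ∑ i, ∑ j, a i * a j * gram k C i j < 0) :
    LinearIndependent ℝ fun i => cc k (C i) := by
  classical
  refine Fintype.linearIndependent_iff.mpr fun v hv => ?_
  by_contra hne
  have hv0 : v ≠ 0 := fun h0 => hne fun i => by rw [h0]; rfl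
  have h1 := negDef_real (gram_symm hB hX C) h hv0
  rw [← B_comb hB C v, hv, map_zero] at h1
  exact lt_irrefl 0 h1

variable [Module.Finite ℝ (N1R k X)]

/-- Curves orthogonal to a class of positive square form a negative definite configuration. -/
theorem negDef_of_orth {H : X.Modules} (hH' : PicF.IsInvertible H) (hH : CohB1.IsAmple H)
    {x : N1R k X} (hxx : 0 < B x x) {ι : Type*} [Fintype ι] {C : ι → NumR.Curve X} (hC : Function.Injective C)
    (horth : ∀ i, B x (cc k (C i)) = 0) :
    ∀ a : ι → ℤ, a ≠ 0 → ∑ i, ∑ j, a i * a j * gram k C i j < 0 := by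
  classical
  intro a ha
  obtain ⟨hhh, hidx⟩ := hodge hX hB hH' hH
  have hs := B_symm hX hB
  have hz : ∀ v : ι → ℝ, B x (∑ i, v i • cc k (C i)) = 0 := fun v => by
    simp only [map_sum, map_smul, horth, smul_zero, Finset.sum_const_zero]
  have hpos0 : ∀ v : ι → ℝ, (∀ i, 0 ≤ v i) → 0 ≤ B (∑ i, v i • cc k (C i)) (∑ i, v i • cc k (C i)) →
      ∀ i, v i = 0 := fun v hv hvv i => by
    have h0 := eq_zero_of_pos_orth B hs hhh hidx (fun x hx => nondegenerate hX hB hx) hxx hvv (hz v)
    have h1 : ∑ j, v j * B (clR k X H hH') (cc k (C j)) = 0 := by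
      have h2 := congrArg (B (clR k X H hH')) h0
      simpa only [map_sum, map_smul, smul_eq_mul, map_zero] using h2
    have h3 := (Finset.sum_eq_zero_iff_of_nonneg fun j _ => mul_nonneg (hv j) ((ample_pos hX hB hH' hH).2 (C j)).le).mp h1 i
      (Finset.mem_univ i)
    exact (mul_eq_zero.mp h3).resolve_right ((ample_pos hX hB hH' hH).2 (C i)).ne'
  have hgoal : B (∑ i, (a i : ℝ) • cc k (C i)) (∑ i, (a i : ℝ) • cc k (C i)) < 0 := by
    by_contra hnn
    push Not at hnn
    have h0 := eq_zero_of_pos_orth B hs hhh hidx (fun x hx => nondegenerate hX hB hx) hxx hnn (hz fun i => (a i : ℝ))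
    let p : ι → ℝ := fun i => max (a i : ℝ) 0
    let n : ι → ℝ := fun i => max (-(a i : ℝ)) 0
    have hpn : ∀ i, p i - n i = a i := fun i => by
      rcases le_total (0 : ℝ) (a i) with h0 | h0 <;> simp [p, n, h0]
    have hPN : ∑ i, p i • cc k (C i) = ∑ i, n i • cc k (C i) := by
      rw [← sub_eq_zero, ← Finset.sum_sub_distrib]
      simpa only [← sub_smul, hpn] using h0
    have hpos : 0 ≤ B (∑ i, p i • cc k (C i)) (∑ i, n i • cc k (C i)) := by
      simp only [map_sum, map_smul, LinearMap.sum_apply, LinearMap.smul_apply, smul_eq_mul, Finset.mul_sum]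
      refine Finset.sum_nonneg fun j _ => Finset.sum_nonneg fun i _ => ?_
      by_cases hij : i = j
      · subst hij
        rcases le_total (0 : ℝ) (a i) with h0 | h0 <;> simp [p, n, h0]
      · exact mul_nonneg (le_max_right _ _) (mul_nonneg (le_max_right _ _) (B_cc_nonneg hX hB (hC.ne hij)))
    have hp : ∀ i, p i = 0 := hpos0 p (fun i => le_max_right _ _) (by rw [← hPN] at hpos; exact hpos)
    have hn : ∀ i, n i = 0 := hpos0 n (fun i => le_max_right _ _) (by rw [hPN] at hpos; exact hpos)
    exact ha (funext fun i => by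
      have h1 := hpn i
      rw [hp i, hn i, sub_zero] at h1
      exact_mod_cast h1.symm)
  rw [B_comb hB] at hgoal
  exact_mod_cast hgoal

end NumRLib
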