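import Groth.Agent.NumRLib.Cones

/-!
# The description of the ample cone of a surface
-/

set_option autoImplicit false
set_option linter.style.haveILetI false
set_option maxHeartbeats 1000000
universe u

open CategoryTheory CategoryTheory.Limits AlgebraicGeometry TopologicalSpace Opposite
open HilbPolyLib DevissLib IntMultLib IntFunLib HodgeIdxLib
open NumR

noncomputable section

namespace NumRLib

section Form

variable {V : Type*} [AddCommGroup V] [Module ℝ V] (B : V →ₗ[ℝ] V →ₗ[ℝ] ℝ)

theorem expand (hs : ∀ x y, B x y = B y x) (a c : ℝ) (x y : V) :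
    B (a • x + c • y) (a • x + c • y) = a ^ 2 * B x x + 2 * a * c * B x y + c ^ 2 * B y y := by
  simp only [map_add, map_smul, LinearMap.add_apply, LinearMap.smul_apply, smul_eq_mul, hs y x]
  ring

variable {h : V} (hs : ∀ x y, B x y = B y x) (hh : 0 < B h h)
  (hidx : ∀ x, B h h * B x x ≤ B x h ^ 2) (hnd : ∀ x, (∀ z, B x z = 0) → x = 0)

include hs hh hidx hnd

omit hs in
theorem neg_of_orth {x : V} (hx : B x h = 0) : B x x ≤ 0 := by
  have := hidx x
  rw [hx] at this
  nlinarith

theorem eq_zero_of_orth {x : V} (hx : B x h = 0) (hxx : 0 ≤ B x x) : x = 0 := by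
  have h0 : B x x = 0 := le_antisymm (neg_of_orth B hh hidx hnd hx) hxx
  refine hnd x fun z => ?_
  let w := z + (-(B z h / B h h)) • h
  have hw : B w h = 0 := by
    simp only [w, map_add, map_smul, LinearMap.add_apply, LinearMap.smul_apply, smul_eq_mul]
    field_simp
    try ring
  have hq : ∀ t : ℝ, t ^ 2 * B w w + 2 * t * B x w ≤ 0 := fun t => by
    have h1 := neg_of_orth B hh hidx hnd (x := (1 : ℝ) • x + t • w) (by
      simp only [map_add, map_smul, LinearMap.add_apply, LinearMap.smul_apply, smul_eq_mul, hx, hw]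
      ring)
    rw [expand B hs, h0] at h1
    linarith
  have hxw : B x w = 0 := by
    by_contra hne
    have h2 := hq (B x w / (|B w w| + 1))
    have hp : 0 < |B w w| + 1 := by positivity
    have h3 : (B x w / (|B w w| + 1)) ^ 2 * B w w + 2 * (B x w / (|B w w| + 1)) * B x w =
        (B x w) ^ 2 * (B w w + 2 * (|B w w| + 1)) / (|B w w| + 1) ^ 2 := by
      field_simp
      skip
    rw [h3] at h2
    have h4 : 0 < B w w + 2 * (|B w w| + 1) := by linarith [neg_abs_le (B w w), abs_nonneg (B w w)]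
    have h5 : 0 < (B x w) ^ 2 * (B w w + 2 * (|B w w| + 1)) / (|B w w| + 1) ^ 2 := by positivity
    linarith
  have : B x z = B x w + (B z h / B h h) * B x h := by
    simp only [w, map_add, map_smul, smul_eq_mul]
    ring
  rw [this, hxw, hx]; ring

theorem eq_zero_of_pos_orth {x y : V} (hx : 0 < B x x) (hy : 0 ≤ B y y) (hxy : B x y = 0) : y = 0 := by
  have h1 : B ((B y h) • x + (-(B x h)) • y) h = 0 := by
    simp only [map_add, map_smul, LinearMap.add_apply, LinearMap.smul_apply, smul_eq_mul]; ring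
  have h2 := neg_of_orth B hh hidx hnd h1
  rw [expand B hs, hxy] at h2
  have hyh : B y h = 0 := by
    by_contra hne
    nlinarith [mul_pos (sq_pos_of_ne_zero hne) hx, mul_nonneg (sq_nonneg (B x h)) hy]
  exact eq_zero_of_orth B hs hh hidx hnd hyh hy

omit hnd in
theorem pos_of_cone {x y : V} (hx : 0 < B x x) (hxh : 0 < B x h) (hy : 0 ≤ B y y) (hyh : 0 < B y h) :
    0 < B x y := by
  by_contra hle
  push Not at hle
  have h1 : B ((B y h) • x + (-(B x h)) • y) h = 0 := by
    simp only [map_add, map_smul, LinearMap.add_apply, LinearMap.smul_apply, smul_eq_mul]; ring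
  have h2 := hidx ((B y h) • x + (-(B x h)) • y)
  rw [h1, expand B hs] at h2
  have h3 : 0 < (B y h) ^ 2 * B x x + 2 * B y h * (-(B x h)) * B x y + (-(B x h)) ^ 2 * B y y := by
    have a1 := mul_pos (pow_pos hyh 2) hx
    have a2 := mul_nonneg (sq_nonneg (B x h)) hy
    have a3 := mul_nonneg (mul_pos hyh hxh).le (neg_nonneg.mpr hle)
    nlinarith
  nlinarith

end Form

variable {k : Type u} [Field k] {X : Scheme.{u}} [X.Over (Spec (CommRingCat.of k))] [PicGrp.Law X]
  [IsProper (X ↘ Spec (CommRingCat.of k))] [IsIntegral X] [Smooth (X ↘ Spec (CommRingCat.of k))]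
  [Module.Finite ℝ (N1R k X)]
  (hX : topologicalKrullDim X = ((2 : ℕ) : WithBot ℕ∞))
  {B : N1R k X →ₗ[ℝ] N1R k X →ₗ[ℝ] ℝ} (hB : IsIntForm₂ k X B)

include hX hB

/-- The index package for an ample module. -/
theorem hodge {H : X.Modules} (hH' : PicF.IsInvertible H) (hH : CohB1.IsAmple H) :
    0 < B (clR k X H hH') (clR k X H hH') ∧
      ∀ x, B (clR k X H hH') (clR k X H hH') * B x x ≤ B x (clR k X H hH') ^ 2 := by
  obtain ⟨h1, -⟩ := ample_pos hX hB hH' hH
  refine ⟨h1, fun x => mul_le_sq hX hB hH' ?_ x⟩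
  rw [B_clR hX hB] at h1
  exact_mod_cast h1

omit hX hB [Smooth (X ↘ Spec (CommRingCat.of k))] [IsIntegral X] [IsProper (X ↘ Spec (CommRingCat.of k))] in
/-- Rational classes are dense. -/
theorem exists_rat_near {U : Set (N1R k X)} (hU : IsOpen U) {x : N1R k X} (hx : x ∈ U) :
    ∃ (d : ℕ) (M : X.Modules) (hM : PicF.IsInvertible M), 0 < d ∧ ((1 : ℝ) / d) • clR k X M hM ∈ U := by
  classical
  obtain ⟨ι, _, L, hL, b, hb⟩ := exists_basis (k := k) (X := X)
  have hφ : Continuous fun r : ι → ℝ => ∑ i, r i • b i := continuous_comb (fun i => b i)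
  obtain ⟨q, hq⟩ := (DenseRange.piMap fun _ : ι => Rat.denseRange_cast (𝕜 := ℝ)).exists_mem_open (hU.preimage hφ)
    ⟨fun i => b.repr x i, by change ∑ i, b.repr x i • b i ∈ U; rwa [b.sum_repr]⟩
  let d : ℕ := ∏ i, (q i).den
  have hd : 0 < d := Finset.prod_pos fun i _ => (q i).den_pos
  have hdvd : ∀ i, ∃ z : ℤ, (z : ℚ) = q i * (d : ℚ) := fun i => by
    obtain ⟨m, hm⟩ : (q i).den ∣ d := Finset.dvd_prod_of_mem _ (Finset.mem_univ i)
    refine ⟨(q i).num * m, ?_⟩
    rw [hm]; push_cast
    rw [← mul_assoc, Rat.mul_den_eq_num]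
  choose c hc using hdvd
  obtain ⟨M, hM, hMe⟩ := exists_clR_comb (k := k) Finset.univ hL c
  refine ⟨d, M, hM, hd, ?_⟩
  have : ((1 : ℝ) / d) • clR k X M hM = ∑ i, (q i : ℝ) • b i := by
    rw [hMe, Finset.smul_sum]
    refine Finset.sum_congr rfl fun i _ => ?_
    rw [smul_smul, ← hb]
    congr 1
    have h2 : (c i : ℝ) = (q i : ℝ) * (d : ℝ) := by exact_mod_cast congrArg (fun t : ℚ => (t : ℝ)) (hc i)
    rw [h2]
    field_simp
  rw [this]
  exact hq

variable {H : X.Modules} (hH' : PicF.IsInvertible H) (hH : CohB1.IsAmple H)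

include hH

/-- Positive classes on curves are positive against ample modules. -/
theorem pos_against {x : N1R k X} (hx : 0 < B x x) (hC : ∀ C : NumR.Curve X, 0 ≤ B x (cc k C)) :
    0 < B x (clR k X H hH') := by
  obtain ⟨hhh, hidx⟩ := hodge hX hB hH' hH
  have hne : B x (clR k X H hH') ≠ 0 := fun h0 => by
    have := hidx x
    rw [h0] at this
    nlinarith [mul_pos hhh hx]
  by_contra hle
  have hlt : B x (clR k X H hH') < 0 := lt_of_le_of_ne (not_lt.mp hle) hne
  have hU : IsOpen {y : N1R k X | 0 < B y y ∧ 0 < B y (clR k X H hH') ∧ B x y < 0} :=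
    (isOpen_lt continuous_const (continuous_sq B)).inter ((isOpen_lt continuous_const (continuous_B_left B _)).inter
      (isOpen_lt ((continuous_B B).comp (continuous_const.prodMk continuous_id)) continuous_const))
  obtain ⟨d, M, hM, hd, hMM, hMh, hMx⟩ := exists_rat_near hU (x := -x) ⟨by simpa using hx, by simpa using hlt, by simpa using hx⟩
  simp only [map_smul, LinearMap.smul_apply, smul_eq_mul] at hMM hMh hMx
  have hd' : (0 : ℝ) < 1 / d := by positivity
  have a1 : 0 < pr k M M := by
    have h1 := pos_of_mul_pos_right (pos_of_mul_pos_right hMM hd'.le) hd'.le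
    rw [B_clR hX hB] at h1
    exact_mod_cast h1
  have a2 : 0 ≤ pr k M H := by
    have h1 := pos_of_mul_pos_right hMh hd'.le
    rw [B_clR hX hB] at h1
    exact_mod_cast h1.le
  obtain ⟨m₀, hm⟩ := SurfNumLib.exists_section_pow (k := k) hX hM hH a1 a2
  obtain ⟨φ, hφ⟩ := CurvLib.exists_hom_ne_zero (L := CohB1.tensorPow M (m₀ + 1)) (hm (m₀ + 1) (Nat.le_succ _))
  have h1 := B_effective_nonneg hX hB (AmpleThLib.tensorPow_isInvertible hM (m₀ + 1)) hφ hC
  rw [clR_pow hM (m₀ + 1), map_smul, smul_eq_mul] at h1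
  have h2 : B x (clR k X M hM) < 0 := (mul_neg_iff.mp hMx).elim (fun h => h.2) (fun h => absurd h.1 hd'.le.not_gt)
  exact absurd h1 (not_le.mpr (mul_neg_of_pos_of_neg (by positivity) h2))

omit hH in
/-- **The ample cone is cut out by positivity.** -/
theorem mem_ampleCone_of_pos (hex : ∃ A : X.Modules, CohB1.IsAmple A) {x : N1R k X} (hx : 0 < B x x)
    (hC : ∀ C : NumR.Curve X, 0 < B x (cc k C)) : x ∈ (ampleCone k X : Set (N1R k X)) := by
  classical
  obtain ⟨H, hH⟩ := hex
  set h := clR k X H hH.1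
  set K : ConvexCone ℝ (N1R k X) := ampleCone k X
  have hKo : IsOpen (K : Set (N1R k X)) := isOpen_ampleCone
  have hKC : ∀ a ∈ K, ∀ C : NumR.Curve X, 0 < B a (cc k C) := fun a ha C => by
    refine (ampleCone_le (S := {a | 0 < B a (cc k C)}) (fun L hL hA => (ample_pos hX hB hL hA).2 C)
      (fun t ht a ha => ?_) (fun a ha b hb => ?_)) ha
    · change 0 < B (t • a) (cc k C)
      rw [map_smul, LinearMap.smul_apply, smul_eq_mul]; exact mul_pos ht ha
    · change 0 < B (a + b) (cc k C)
      rw [map_add, LinearMap.add_apply]; exact add_pos ha hb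
  have hhK : h ∈ K := mem_ampleCone hH.1 hH
  have hhC := hKC h hhK
  have hxh : 0 < B x h := pos_against hX hB hH.1 hH hx fun C => (hC C).le
  -- a uniform lower bound on curves
  obtain ⟨δ, hδ, hbound⟩ : ∃ δ : ℝ, 0 < δ ∧ ∀ C : NumR.Curve X, δ * B h (cc k C) ≤ B x (cc k C) := by
    obtain ⟨ε, hε, hε1, hε2⟩ : ∃ ε : ℝ, 0 < ε ∧ 0 < B (x + (-ε) • h) (x + (-ε) • h) ∧ 0 < B (x + (-ε) • h) h := by
      have hcont : Continuous fun t : ℝ => x + (-t) • h := by fun_prop
      have hopen : IsOpen {t : ℝ | 0 < B (x + (-t) • h) (x + (-t) • h) ∧ 0 < B (x + (-t) • h) h} :=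
        (isOpen_lt continuous_const ((continuous_sq B).comp hcont)).inter
          (isOpen_lt continuous_const ((continuous_B_left B h).comp hcont))
      obtain ⟨η, hη, hball⟩ := Metric.isOpen_iff.mp hopen 0 (by simp [hx, hxh])
      obtain ⟨h1, h2⟩ := hball (show η / 2 ∈ Metric.ball (0 : ℝ) η by
        rw [Metric.mem_ball, Real.dist_eq, sub_zero, abs_of_pos (by positivity)]; linarith)
      exact ⟨η / 2, by positivity, h1, h2⟩
    have hU : IsOpen {y : N1R k X | 0 < B y y ∧ 0 < B y h ∧ x + (-1 : ℝ) • y + (-(ε / 2)) • h ∈ K} :=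
      (isOpen_lt continuous_const (continuous_sq B)).inter ((isOpen_lt continuous_const (continuous_B_left B h)).inter
        (hKo.preimage ((continuous_const.add (continuous_id.const_smul (-1 : ℝ))).add continuous_const)))
    obtain ⟨d, M, hM, hd, hMM, hMh, hMK⟩ := exists_rat_near hU (x := x + (-ε) • h) ⟨hε1, hε2, by
      have : x + (-1 : ℝ) • (x + (-ε) • h) + (-(ε / 2)) • h = (ε / 2) • h := by
        rw [smul_add, smul_smul, add_assoc, add_assoc, ← add_smul, neg_one_smul, add_neg_cancel_left]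
        congr 1; ring
      rw [this]
      exact K.smul_mem (by positivity) hhK⟩
    simp only [map_smul, LinearMap.smul_apply, smul_eq_mul] at hMM hMh
    have hd' : (0 : ℝ) < 1 / d := by positivity
    have a1 : 0 < pr k M M := by
      have h1 := pos_of_mul_pos_right (pos_of_mul_pos_right hMM hd'.le) hd'.le
      rw [B_clR hX hB] at h1
      exact_mod_cast h1
    have a2 : 0 ≤ pr k M H := by
      have h1 := pos_of_mul_pos_right hMh hd'.le
      rw [B_clR hX hB] at h1
      exact_mod_cast h1.le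
    obtain ⟨m₀, hm⟩ := SurfNumLib.exists_section_pow (k := k) hX hM hH a1 a2
    obtain ⟨φ, hφ⟩ := CurvLib.exists_hom_ne_zero (L := CohB1.tensorPow M (m₀ + 1)) (hm (m₀ + 1) (Nat.le_succ _))
    obtain ⟨S, w, hS⟩ := exists_curve_comb hX hB (AmpleThLib.tensorPow_isInvertible hM (m₀ + 1)) hφ
    rw [clR_pow hM (m₀ + 1)] at hS
    obtain ⟨δ₁, hδ₁, hδ₁'⟩ : ∃ δ₁ : ℝ, 0 < δ₁ ∧ ∀ C ∈ S, δ₁ * B h (cc k C) ≤ B x (cc k C) := by
      rcases S.eq_empty_or_nonempty with rfl | hne
      · exact ⟨1, one_pos, by simp⟩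
      · obtain ⟨C₀, hC₀, hmin⟩ := S.exists_min_image (fun C => B x (cc k C) / B h (cc k C)) hne
        exact ⟨_, div_pos (hC C₀) (hhC C₀), fun C hCS => (le_div_iff₀ (hhC C)).mp (hmin C hCS)⟩
    refine ⟨min δ₁ (ε / 2), lt_min hδ₁ (by positivity), fun C => ?_⟩
    by_cases hCS : C ∈ S
    · exact le_trans (mul_le_mul_of_nonneg_right (min_le_left _ _) (hhC C).le) (hδ₁' C hCS)
    · refine le_trans (mul_le_mul_of_nonneg_right (min_le_right _ _) (hhC C).le) ?_
      have hy : 0 ≤ B (((1 : ℝ) / d) • clR k X M hM) (cc k C) := by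
        rw [map_smul, LinearMap.smul_apply, smul_eq_mul]
        refine mul_nonneg hd'.le ?_
        have h1 : 0 ≤ B (((m₀ + 1 : ℕ) : ℝ) • clR k X M hM) (cc k C) := by
          rw [hS, map_sum, LinearMap.sum_apply]
          refine Finset.sum_nonneg fun C' hC' => ?_
          rw [map_smul, LinearMap.smul_apply, smul_eq_mul]
          exact mul_nonneg (Nat.cast_nonneg _) (B_cc_nonneg hX hB fun h' => hCS (h' ▸ hC'))
        rw [map_smul, LinearMap.smul_apply, smul_eq_mul] at h1
        exact nonneg_of_mul_nonneg_right h1 (by positivity)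
      have h2 := hKC _ hMK C
      simp only [map_add, map_smul, LinearMap.add_apply, LinearMap.smul_apply, smul_eq_mul] at h2 hy
      linarith
  -- rational classes near `x` are ample
  let W : Set (N1R k X) := {z | 0 < B z z ∧ z + (-1 : ℝ) • x + (δ / 2) • h ∈ K}
  have hW : IsOpen W := (isOpen_lt continuous_const (continuous_sq B)).inter
    (hKo.preimage ((continuous_id.add continuous_const).add continuous_const))
  have hWx : x ∈ W := ⟨hx, by
    change x + (-1 : ℝ) • x + (δ / 2) • h ∈ K
    rw [neg_one_smul, add_neg_cancel, zero_add]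
    exact K.smul_mem (by positivity) hhK⟩
  have hWamp : ∀ (d : ℕ) (M : X.Modules) (hM : PicF.IsInvertible M), 0 < d → ((1 : ℝ) / d) • clR k X M hM ∈ W →
      ((1 : ℝ) / d) • clR k X M hM ∈ K := fun d M hM hd ⟨hMM, hMK⟩ => by
    have hd' : (0 : ℝ) < 1 / d := by positivity
    refine K.smul_mem hd' (mem_ampleCone hM (SurfAmpleLib.isAmple_surface (k := k) hX hM ?_ fun c hc => ?_))
    · simp only [map_smul, LinearMap.smul_apply, smul_eq_mul] at hMM
      have h1 := pos_of_mul_pos_right (pos_of_mul_pos_right hMM hd'.le) hd'.le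
      rw [B_clR hX hB] at h1
      exact_mod_cast h1
    · let C : NumR.Curve X := ⟨ptIdeal c, isIntegral_ptIdeal c,
        by rw [IntFunLib.dim_ptIdeal, hc, Nat.cast_one], invertible_curve k hX hc⟩
      have h1 := hKC _ hMK C
      simp only [map_add, map_smul, LinearMap.add_apply, LinearMap.smul_apply, smul_eq_mul] at h1
      have h2 : 0 < 1 / (d : ℝ) * B (clR k X M hM) (cc k C) := by
        nlinarith [hbound C, mul_pos hδ (hhC C)]
      have h3 := pos_of_mul_pos_right h2 hd'.le
      rw [B_cc hX hB] at h3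
      exact_mod_cast h3
  -- `x` is a positive combination of nearby rational classes
  obtain ⟨ι, _, L, hL, b, hb⟩ := exists_basis (k := k) (X := X)
  haveI : Nonempty ι := by
    by_contra hι
    rw [not_nonempty_iff] at hι
    have h0 : x = 0 := by rw [← b.sum_repr x]; simp
    rw [h0] at hx
    simp at hx
  let φ : (ι → ℝ) → N1R k X := fun r => ∑ i, r i • b i
  have hφc : Continuous φ := continuous_comb (fun i => b i)
  obtain ⟨η, hη, hball⟩ := Metric.isOpen_iff.mp (hW.preimage hφc) (fun i => b.repr x i)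
    (by change ∑ i, b.repr x i • b i ∈ W; rwa [b.sum_repr])
  obtain ⟨e, he, heη⟩ := exists_rat_btwn (show (0 : ℝ) < η / 2 by positivity)
  let n : ℝ := Fintype.card ι
  have hn : 0 < n := by simp only [n]; exact_mod_cast Fintype.card_pos
  choose q hq using fun i => exists_rat_btwn (show b.repr x i - e / (2 * n) < b.repr x i + e / (2 * n) by
    have : (0 : ℝ) < e / (2 * n) := by positivity
    linarith)
  have hrat : ∀ (p : ι → ℚ), (∀ i, |(p i : ℝ) - b.repr x i| < η) → φ (fun i => (p i : ℝ)) ∈ K := fun p hp => by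
    have hmem : φ (fun i => (p i : ℝ)) ∈ W := hball (by
      rw [Metric.mem_ball, dist_pi_lt_iff hη]
      exact fun i => by rw [Real.dist_eq]; exact hp i)
    let d : ℕ := ∏ i, (p i).den
    have hd : 0 < d := Finset.prod_pos fun i _ => (p i).den_pos
    have hdvd : ∀ i, ∃ z : ℤ, (z : ℚ) = p i * (d : ℚ) := fun i => by
      obtain ⟨m, hm⟩ : (p i).den ∣ d := Finset.dvd_prod_of_mem _ (Finset.mem_univ i)
      refine ⟨(p i).num * m, ?_⟩
      rw [hm]; push_cast
      rw [← mul_assoc, Rat.mul_den_eq_num]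
    choose c hc using hdvd
    obtain ⟨M, hM, hMe⟩ := exists_clR_comb (k := k) Finset.univ hL c
    have heq : φ (fun i => (p i : ℝ)) = ((1 : ℝ) / d) • clR k X M hM := by
      rw [hMe, Finset.smul_sum]
      refine Finset.sum_congr rfl fun i _ => ?_
      rw [smul_smul, ← hb]
      congr 1
      have h2 : (c i : ℝ) = (p i : ℝ) * (d : ℝ) := by exact_mod_cast congrArg (fun t : ℚ => (t : ℝ)) (hc i)
      rw [h2]
      field_simp
    rw [heq] at hmem ⊢
    exact hWamp d M hM hd hmem
  let z := φ fun i => (q i : ℝ)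
  let t : ι → ℝ := fun i => n * (b.repr x i - (q i : ℝ))
  have hqx : ∀ i, |(q i : ℝ) - b.repr x i| < e / (2 * n) := fun i => by
    rw [abs_lt]; constructor <;> [linarith [(hq i).1]; linarith [(hq i).2]]
  have hn1 : 1 ≤ n := by
    simp only [n]; exact_mod_cast Fintype.card_pos
  have he2 : e / (2 * n) ≤ (e : ℝ) / 2 := div_le_div_of_nonneg_left he.le two_pos (by linarith)
  have hterm : ∀ i, z + t i • b i ∈ K := fun i => by
    have hend : ∀ s : ℚ, |(s : ℝ)| ≤ e → z + (s : ℝ) • b i ∈ K := fun s hs => by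
      have heq : z + (s : ℝ) • b i = φ (fun j => ((q j + if j = i then s else 0 : ℚ) : ℝ)) := by
        simp only [z, φ]
        push_cast
        simp only [add_smul, Finset.sum_add_distrib, apply_ite (fun r : ℚ => (r : ℝ)), Rat.cast_zero, ite_smul, zero_smul,
          Finset.sum_ite_eq', Finset.mem_univ, if_true]
      rw [heq]
      refine hrat _ fun j => ?_
      have h1 := hqx j
      split_ifs with hji
      · push_cast
        calc |(q j : ℝ) + s - b.repr x j| ≤ |(q j : ℝ) - b.repr x j| + |(s : ℝ)| := by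
              rw [show (q j : ℝ) + s - b.repr x j = ((q j : ℝ) - b.repr x j) + s by ring]; exact abs_add_le _ _
          _ < η := by linarith
      · rw [add_zero]; linarith
    have ht : |t i| < e := by
      simp only [t]
      rw [abs_mul, abs_of_pos hn, abs_sub_comm]
      have h1 := mul_lt_mul_of_pos_left (hqx i) hn
      have h2 : n * (e / (2 * n)) = (e : ℝ) / 2 := by field_simp
      linarith
    have hl1 : 0 < (t i + e) / (2 * e) := by
      have := neg_abs_le (t i)
      exact div_pos (by linarith) (by linarith)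
    have hl2 : 0 < (e - t i) / (2 * e) := by
      have := le_abs_self (t i)
      exact div_pos (by linarith) (by linarith)
    have heq : z + t i • b i = ((t i + e) / (2 * e)) • (z + (e : ℝ) • b i) + ((e - t i) / (2 * e)) • (z + ((-e : ℚ) : ℝ) • b i) := by
      rw [smul_add, smul_add, smul_smul, smul_smul, add_add_add_comm, ← add_smul, ← add_smul]
      have e1 : (t i + e) / (2 * e) + (e - t i) / (2 * e) = (1 : ℝ) := by field_simp; ring
      have e2 : (t i + e) / (2 * e) * e + (e - t i) / (2 * e) * ((-e : ℚ) : ℝ) = t i := by push_cast; field_simp; ring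
      rw [e1, e2, one_smul]
    rw [heq]
    exact K.add_mem (K.smul_mem hl1 (hend e (le_of_eq (abs_of_pos he))))
      (K.smul_mem hl2 (hend (-e) (by push_cast; rw [abs_neg, abs_of_pos he])))
  have hxe : x = ((1 : ℝ) / n) • ∑ i, (z + t i • b i) := by
    rw [Finset.sum_add_distrib, Finset.sum_const, Finset.card_univ, smul_add, ← Nat.cast_smul_eq_nsmul ℝ, smul_smul]
    have : (1 : ℝ) / n * (Fintype.card ι : ℝ) = 1 := by simp only [n]; field_simp
    rw [this, one_smul, Finset.smul_sum]
    simp only [z, φ, t, smul_smul]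
    rw [← Finset.sum_add_distrib]
    conv_lhs => rw [← b.sum_repr x]
    refine Finset.sum_congr rfl fun i _ => ?_
    rw [← add_smul]
    congr 1
    field_simp
    ring
  have key : ∀ s : Finset ι, s.Nonempty → ∑ i ∈ s, (z + t i • b i) ∈ K := fun s hs => by
    induction hs using Finset.Nonempty.cons_induction with
    | singleton a => rw [Finset.sum_singleton]; exact hterm a
    | cons a s ha _ ih => rw [Finset.sum_cons]; exact K.add_mem (hterm a) ih
  rw [hxe]
  exact K.smul_mem (by positivity) (key _ Finset.univ_nonempty)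

omit hH in
/-- Ample cone classes. -/
theorem cone_pos {H : X.Modules} (hH' : PicF.IsInvertible H) (hH : CohB1.IsAmple H) {x : N1R k X}
    (hx : x ∈ (ampleCone k X : Set (N1R k X))) :
    0 < B x x ∧ 0 < B x (clR k X H hH') ∧ ∀ C : NumR.Curve X, 0 < B x (cc k C) := by
  obtain ⟨hh, hidx⟩ := hodge hX hB hH' hH
  refine (ampleCone_le (S := {x | 0 < B x x ∧ 0 < B x (clR k X H hH') ∧ ∀ C : NumR.Curve X, 0 < B x (cc k C)})
    (fun L hL hA => ⟨(ample_pos hX hB hL hA).1, B_amples_pos hX hB hL hA hH' hH, (ample_pos hX hB hL hA).2⟩)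
    (fun t ht a ha => ?_) (fun a ha c hc => ?_)) hx
  · obtain ⟨h1, h2, h3⟩ := ha
    refine ⟨?_, ?_, fun C => ?_⟩ <;> simp only [map_smul, LinearMap.smul_apply, smul_eq_mul]
    · positivity
    · positivity
    · exact mul_pos ht (h3 C)
  · obtain ⟨h1, h2, h3⟩ := ha
    obtain ⟨g1, g2, g3⟩ := hc
    refine ⟨?_, ?_, fun C => ?_⟩ <;> simp only [map_add, LinearMap.add_apply]
    · have h4 := pos_of_cone B (B_symm hX hB) hh hidx h1 h2 g1.le g2
      have h5 := B_symm hX hB c a
      linarith
    · linarith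
    · linarith [h3 C, g3 C]

omit hH in
/-- Nef classes have nonnegative square. -/
theorem sq_nonneg_of_nef (hex : ∃ A : X.Modules, CohB1.IsAmple A) {x : N1R k X}
    (hx : ∀ C : NumR.Curve X, 0 ≤ B x (cc k C)) : 0 ≤ B x x := by
  obtain ⟨H, hH⟩ := hex
  obtain ⟨hh, hhC⟩ := ample_pos hX hB hH.1 hH
  set h := clR k X H hH.1
  have hxh : 0 ≤ B x h := B_ample_nonneg hX hB hH.1 hH hx
  have hsym : B h x = B x h := B_symm hX hB h x
  by_contra hneg
  push Not at hneg
  -- the largest root
  let D := B x h ^ 2 - B h h * B x x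
  have hD : B x h ^ 2 < D := by simp only [D]; nlinarith
  let t₀ := (Real.sqrt D - B x h) / B h h
  have hsq : B x h < Real.sqrt D := by
    rw [show B x h = Real.sqrt (B x h ^ 2) from (Real.sqrt_sq hxh).symm]
    exact Real.sqrt_lt_sqrt (sq_nonneg _) hD
  have ht₀ : 0 < t₀ := div_pos (by linarith) hh
  have hroot : B h h * t₀ + B x h = Real.sqrt D := by simp only [t₀]; field_simp; ring
  have hq0 : B x x + 2 * t₀ * B x h + t₀ ^ 2 * B h h = 0 := by
    have h1 : (B h h * t₀ + B x h) ^ 2 = D := by rw [hroot, Real.sq_sqrt (le_trans (sq_nonneg _) hD.le)]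
    simp only [D] at h1
    have h2 : B h h * (B x x + 2 * t₀ * B x h + t₀ ^ 2 * B h h) = 0 := by nlinarith
    exact (mul_eq_zero.mp h2).resolve_left hh.ne'
  have hpos : ∀ s : ℝ, 0 < s → 0 ≤ B x x + (t₀ + s) * B x h := fun s hs => by
    have hz : x + (t₀ + s) • h ∈ (ampleCone k X : Set (N1R k X)) := by
      refine mem_ampleCone_of_pos hX hB ⟨H, hH⟩ ?_ fun C => ?_
      · simp only [map_add, map_smul, LinearMap.add_apply, LinearMap.smul_apply, smul_eq_mul, hsym]
        nlinarith [hq0, mul_pos hs (mul_pos hh ht₀), mul_nonneg hs.le hxh, mul_pos (mul_pos hs hs) hh]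
      · simp only [map_add, map_smul, LinearMap.add_apply, LinearMap.smul_apply, smul_eq_mul]
        exact add_pos_of_nonneg_of_pos (hx C) (mul_pos (by linarith) (hhC C))
    have h1 : 0 ≤ B x (x + (t₀ + s) • h) := by
      refine (ampleCone_le (S := {a | 0 ≤ B x a}) (fun L hL hA => B_ample_nonneg hX hB hL hA hx)
        (fun t ht a ha => ?_) (fun a ha c hc => ?_)) hz
      · change 0 ≤ B x (t • a)
        rw [map_smul, smul_eq_mul]; exact mul_nonneg ht.le ha
      · change 0 ≤ B x (a + c)
        rw [map_add]; exact add_nonneg ha hc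
    rwa [map_add, map_smul, smul_eq_mul] at h1
  have h0 : 0 ≤ B x x + t₀ * B x h := by
    refine le_of_forall_pos_le_add fun ε hε => ?_
    rcases eq_or_lt_of_le hxh with h1 | h1
    · have := hpos 1 one_pos
      rw [← h1] at this ⊢
      linarith
    · have h2 := hpos (ε / B x h) (div_pos hε h1)
      rw [add_mul, div_mul_cancel₀ _ h1.ne'] at h2
      linarith
  nlinarith [mul_pos (pow_pos ht₀ 2) hh, mul_nonneg ht₀.le hxh]

end NumRLib
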