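import Groth.Agent.NumRLib.Cones
import Mathlib.LinearAlgebra.Basis.VectorSpace

/-!
# Ample real divisors up to numerical equivalence
-/

set_option autoImplicit false
set_option linter.style.haveILetI false
set_option maxHeartbeats 1000000
universe u

open CategoryTheory CategoryTheory.Limits AlgebraicGeometry TopologicalSpace Opposite
open HilbPolyLib DevissLib IntMultLib IntFunLib HodgeIdxLib
open NumR

noncomputable section

namespace NumRLib

variable {X : Scheme.{u}} [PicGrp.Law X]

theorem isAmpleRDiv_smul {t : ℝ} (ht : 0 < t) {D : CDivR X} (hD : IsAmpleRDiv X D) : IsAmpleRDiv X (t • D) := by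
  obtain ⟨n, E, c, hn, hc, hE, rfl⟩ := hD
  exact ⟨n, E, fun i => t * c i, hn, fun i => mul_pos ht (hc i), hE, by rw [Finset.smul_sum]; simp only [smul_smul]⟩

theorem isAmpleRDiv_add {D D' : CDivR X} (hD : IsAmpleRDiv X D) (hD' : IsAmpleRDiv X D') : IsAmpleRDiv X (D + D') := by
  obtain ⟨n, E, c, hn, hc, hE, rfl⟩ := hD
  obtain ⟨n', E', c', hn', hc', hE', rfl⟩ := hD'
  refine ⟨n + n', Fin.append E E', Fin.append c c', by omega, fun i => ?_, fun i => ?_, ?_⟩
  · induction i using Fin.addCases with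
    | left i => rw [Fin.append_left]; exact hc i
    | right i => rw [Fin.append_right]; exact hc' i
  · induction i using Fin.addCases with
    | left i => rw [Fin.append_left]; exact hE i
    | right i => rw [Fin.append_right]; exact hE' i
  · rw [Fin.sum_univ_add]
    simp only [Fin.append_left, Fin.append_right]

theorem isAmpleRDiv_sum {ι : Type*} {s : Finset ι} (hs : s.Nonempty) (f : ι → CDivR X) (h : ∀ i ∈ s, IsAmpleRDiv X (f i)) :
    IsAmpleRDiv X (∑ i ∈ s, f i) := by
  induction hs using Finset.Nonempty.cons_induction with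
  | singleton a => rw [Finset.sum_singleton]; exact h a (Finset.mem_singleton_self a)
  | cons a s ha hs ih =>
    rw [Finset.sum_cons]
    exact isAmpleRDiv_add (h a (Finset.mem_cons_self a s)) (ih fun i hi => h i (Finset.mem_cons_of_mem hi))

variable {k : Type u} [Field k] [X.Over (Spec (CommRingCat.of k))]
variable [IsProper (X ↘ Spec (CommRingCat.of k))] [IsIntegral X] [Smooth (X ↘ Spec (CommRingCat.of k))]
  (hX : topologicalKrullDim X = ((2 : ℕ) : WithBot ℕ∞))
  {B : N1R k X →ₗ[ℝ] N1R k X →ₗ[ℝ] ℝ} (hB : IsIntForm₂ k X B)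

include hX hB

omit [Smooth (X ↘ Spec (CommRingCat.of k))] in
theorem exists_int_B (x y : NumR.CDiv X) :
    ∃ z : ℤ, (z : ℝ) = B (divClR k X (CDiv.toR X x)) (divClR k X (CDiv.toR X y)) := by
  obtain ⟨L, hL, hL'⟩ := exists_clR_eq (k := k) (toN1 k X (divCl X x))
  obtain ⟨M, hM, hM'⟩ := exists_clR_eq (k := k) (toN1 k X (divCl X y))
  exact ⟨pr k L M, by rw [divClR_toR, divClR_toR, hL', hM', B_clR hX hB]⟩

/-- Adding a numerically trivial integral divisor keeps an ample divisor ample. -/
theorem exists_ample_shift {E F : NumR.CDiv X}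
    (hE : ∃ (L : X.Modules) (hL : PicF.IsInvertible L), CohB1.IsAmple L ∧ Additive.ofMul (PicGrp.cls L hL) = divCl X E)
    (hF : IsNumTrivialRDiv k X B (CDiv.toR X F)) (m : ℤ) :
    ∃ (L : X.Modules) (hL : PicF.IsInvertible L), CohB1.IsAmple L ∧ Additive.ofMul (PicGrp.cls L hL) = divCl X (E + m • F) := by
  obtain ⟨L, hL, hA, he⟩ := hE
  obtain ⟨M, hM, hMe⟩ := PicGrp.exists_eq_cls (Additive.toMul (divCl X (E + m • F)))
  have hMe' : Additive.ofMul (PicGrp.cls M hM) = divCl X (E + m • F) := by rw [← hMe]; rfl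
  have hLR : clR k X L hL = divClR k X (CDiv.toR X E) := by rw [divClR_toR, ← he]; rfl
  have hMR : clR k X M hM = clR k X L hL + (m : ℝ) • divClR k X (CDiv.toR X F) := by
    rw [hLR, Int.cast_smul_eq_zsmul, ← map_zsmul, ← map_zsmul, ← map_add, ← map_add, divClR_toR, ← hMe']
    rfl
  have hFC : ∀ C : NumR.Curve X, B (divClR k X (CDiv.toR X F)) (cc k C) = 0 := fun C => by
    have h1 := hF (Finsupp.single C 1)
    simpa [CDiv.toR, divClR] using h1
  obtain ⟨hpos, hcur⟩ := ample_pos hX hB hL hA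
  refine ⟨M, hM, SurfAmpleLib.isAmple_surface (k := k) hX hM ?_ fun c hc => ?_, hMe'⟩
  · have h1 : 0 < B (clR k X M hM) (clR k X M hM) := by
      rw [hMR]
      simp only [map_add, map_smul, LinearMap.add_apply, LinearMap.smul_apply, smul_eq_mul,
        B_symm hX hB (clR k X L hL) (divClR k X (CDiv.toR X F))]
      have a1 := hF E
      rw [← hLR] at a1
      rw [a1, hF F]
      simpa using hpos
    rw [B_clR hX hB] at h1
    exact_mod_cast h1
  · let C : NumR.Curve X := ⟨ptIdeal c, isIntegral_ptIdeal c,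
      by rw [IntFunLib.dim_ptIdeal, hc, Nat.cast_one], invertible_curve k hX hc⟩
    have h1 : 0 < B (clR k X M hM) (cc k C) := by
      rw [hMR, map_add, map_smul, LinearMap.add_apply, LinearMap.smul_apply, hFC C, smul_zero, add_zero]
      exact hcur C
    rw [B_cc hX hB] at h1
    exact_mod_cast h1

/-- Real shifts by integral numerically trivial divisors. -/
theorem isAmpleRDiv_add_smul {D : CDivR X} (hD : IsAmpleRDiv X D) {F : NumR.CDiv X}
    (hF : IsNumTrivialRDiv k X B (CDiv.toR X F)) (s : ℝ) : IsAmpleRDiv X (D + s • CDiv.toR X F) := by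
  obtain ⟨n, E, t, hn, ht, hE, rfl⟩ := hD
  have hn' : (n : ℝ) ≠ 0 := Nat.cast_ne_zero.mpr hn.ne'
  have hrw : ∑ i, t i • CDiv.toR X (E i) + s • CDiv.toR X F =
      ∑ i, t i • (CDiv.toR X (E i) + (s / (n * t i)) • CDiv.toR X F) := by
    simp only [smul_add, Finset.sum_add_distrib, smul_smul, ← Finset.sum_smul]
    congr 2
    rw [show (fun i => t i * (s / ((n : ℝ) * t i))) = fun _ => s / n from funext fun i => by
      have := (ht i).ne'
      field_simp]
    rw [Finset.sum_const, Finset.card_univ, Fintype.card_fin, nsmul_eq_mul]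
    field_simp
  rw [hrw]
  haveI : Nonempty (Fin n) := ⟨⟨0, hn⟩⟩
  refine isAmpleRDiv_sum Finset.univ_nonempty _ fun i _ => isAmpleRDiv_smul (ht i) ?_
  generalize s / (n * t i) = u
  have hint : ∀ m : ℤ, IsAmpleRDiv X (CDiv.toR X (E i) + (m : ℝ) • CDiv.toR X F) := fun m =>
    ⟨1, fun _ => E i + m • F, fun _ => 1, one_pos, fun _ => one_pos, fun _ => exists_ample_shift hX hB (hE i) hF m,
      by rw [Fin.sum_univ_one, one_smul, map_add, map_zsmul, Int.cast_smul_eq_zsmul]⟩
  have h1 := Int.floor_le u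
  have h2 := Int.lt_floor_add_one u
  have heq : CDiv.toR X (E i) + u • CDiv.toR X F =
      (((⌊u⌋ + 1 : ℤ) - u) / 2) • (CDiv.toR X (E i) + ((⌊u⌋ - 1 : ℤ) : ℝ) • CDiv.toR X F) +
      ((u - (⌊u⌋ - 1 : ℤ)) / 2) • (CDiv.toR X (E i) + ((⌊u⌋ + 1 : ℤ) : ℝ) • CDiv.toR X F) := by
    push_cast
    module
  rw [heq]
  refine isAmpleRDiv_add (isAmpleRDiv_smul ?_ (hint _)) (isAmpleRDiv_smul ?_ (hint _)) <;> (push_cast; linarith)

omit [Smooth (X ↘ Spec (CommRingCat.of k))] in
/-- A numerically trivial real divisor is a real combination of integral numerically trivial divisors. -/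
theorem exists_int_numTrivial {D : CDivR X} (hD : IsNumTrivialRDiv k X B D) :
    ∃ (ι : Type) (s : Finset ι) (r : ι → ℝ) (F : ι → NumR.CDiv X),
      (∀ i ∈ s, IsNumTrivialRDiv k X B (CDiv.toR X (F i))) ∧ D = ∑ i ∈ s, r i • CDiv.toR X (F i) := by
  classical
  let b := Module.Basis.ofVectorSpace ℚ ℝ
  let T := D.support.biUnion fun C => (b.repr (D C)).support
  let d : _ → ℕ := fun j => ∏ C ∈ D.support, ((b.repr (D C)) j).den
  have hd : ∀ j, 0 < d j := fun j => Finset.prod_pos fun C _ => Rat.den_pos _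
  have hdvd : ∀ j C, ∃ z : ℤ, C ∈ D.support → (z : ℚ) = (b.repr (D C)) j * (d j : ℚ) := fun j C => by
    by_cases hC : C ∈ D.support
    · obtain ⟨m, hm⟩ : ((b.repr (D C)) j).den ∣ d j := Finset.dvd_prod_of_mem _ hC
      refine ⟨((b.repr (D C)) j).num * m, fun _ => ?_⟩
      rw [hm]; push_cast
      rw [← mul_assoc, Rat.mul_den_eq_num]
    · exact ⟨0, fun h => absurd h hC⟩
  choose z hz using hdvd
  let F : _ → NumR.CDiv X := fun j => ∑ C ∈ D.support, Finsupp.single C (z j C)
  have hF : ∀ j, CDiv.toR X (F j) = ∑ C ∈ D.support, Finsupp.single C (z j C : ℝ) := fun j => by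
    simp [F, CDiv.toR]
  have hDsum : D = ∑ C ∈ D.support, Finsupp.single C (D C) := (Finsupp.sum_single D).symm
  refine ⟨_, T, fun j => b j / d j, F, fun j _ E => ?_, ?_⟩
  · let g : CDivR X →ₗ[ℝ] ℝ := (B.flip (divClR k X (CDiv.toR X E))).comp (divClR k X)
    choose m hm using fun C : NumR.Curve X => exists_int_B hX hB (Finsupp.single C 1) E
    have hg : ∀ (C : NumR.Curve X) (a : ℝ), g (Finsupp.single C a) = a * (m C : ℝ) := fun C a => by
      rw [hm C, show Finsupp.single C a = a • CDiv.toR X (Finsupp.single C 1) by simp [CDiv.toR], map_smul,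
        smul_eq_mul]
      rfl
    have h0 : ∑ C ∈ D.support, D C * (m C : ℝ) = 0 := by
      have h1 : g D = 0 := hD E
      rw [hDsum, map_sum] at h1
      simp only [hg] at h1
      exact h1
    have h2 : ∑ C ∈ D.support, (b.repr (D C)) j * (m C : ℚ) = 0 := by
      have h3 := congrArg (fun r : ℝ => (b.repr r) j) h0
      simp only [map_sum, map_zero, Finsupp.finsetSum_apply, Finsupp.coe_zero, Pi.zero_apply] at h3
      rw [← h3]
      refine Finset.sum_congr rfl fun C _ => ?_
      rw [mul_comm (D C), ← zsmul_eq_mul, map_zsmul, Finsupp.smul_apply, zsmul_eq_mul, mul_comm]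
    change g (CDiv.toR X (F j)) = 0
    rw [hF, map_sum]
    simp only [hg]
    have h4 : ((∑ C ∈ D.support, (z j C : ℚ) * (m C : ℚ) : ℚ) : ℝ) = 0 := by
      rw [Finset.sum_congr rfl fun C hC => show (z j C : ℚ) * (m C : ℚ) = (d j : ℚ) * ((b.repr (D C)) j * (m C : ℚ)) by
        rw [hz j C hC]; ring, ← Finset.mul_sum, h2, mul_zero, Rat.cast_zero]
    push_cast at h4
    exact h4
  · conv_lhs => rw [hDsum]
    simp only [hF, Finset.smul_sum, Finsupp.smul_single, smul_eq_mul]
    rw [Finset.sum_comm]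
    refine Finset.sum_congr rfl fun C hC => ?_
    rw [← Finsupp.single_finsetSum]
    congr 1
    have h5 : (D C) = ∑ j ∈ T, (b.repr (D C)) j • b j := by
      conv_lhs => rw [← b.linearCombination_repr (D C)]
      rw [Finsupp.linearCombination_apply]
      exact Finsupp.sum_of_support_subset _ (Finset.subset_biUnion_of_mem (fun C => (b.repr (D C)).support) hC) _
        fun j _ => zero_smul ℚ _
    rw [h5]
    refine Finset.sum_congr rfl fun j _ => ?_
    rw [Rat.smul_def]
    have h6 : (z j C : ℝ) = ((b.repr (D C)) j : ℝ) * (d j : ℝ) := by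
      exact_mod_cast congrArg (fun t : ℚ => (t : ℝ)) (hz j C hC)
    rw [h6]
    have := (Nat.cast_ne_zero (R := ℝ)).mpr (hd j).ne'
    field_simp

end NumRLib
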